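import Groth.Agent.Lib.SymFlat14.Loc
import Groth.Agent.Lib.FinAffine12.Basic
import Mathlib.AlgebraicGeometry.Morphisms.Affine
import Mathlib.GroupTheory.OrderOfElement

/-!
# Local models for symmetric group actions on fibre powers
-/

set_option autoImplicit false
set_option backward.isDefEq.respectTransparency.types false
universe u

open CategoryTheory CategoryTheory.Limits AlgebraicGeometry TopologicalSpace

namespace Groth.Agent.SymFlat14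

open Groth.Agent.GammaD

theorem exists_basicOpen_of_finite {P : Scheme.{u}} {B : P.Opens} (hB : IsAffineOpen B) (W : P.Opens)
    {E : Set P} (hE : E.Finite) (hEW : E ⊆ (W ⊓ B : P.Opens)) :
    ∃ g : Γ(P, B), P.basicOpen g ≤ W ∧ E ⊆ P.basicOpen g := by
  haveI : IsAffine B.toScheme := hB
  obtain ⟨g, hg, hEg⟩ := FinAffine12.exists_basicOpen_of_finite (Y := B.toScheme) (B.ι ⁻¹ᵁ W) (B.ι ⁻¹' E)
    (hE.preimage B.ι.isOpenEmbedding.injective.injOn) (fun z hz => (hEW hz).1)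
  refine ⟨B.topIso.hom g, ?_, fun z hz => ?_⟩
  · rw [← Scheme.Opens.ι_image_basicOpen_topIso_inv, ← CommRingCat.comp_apply, Iso.hom_inv_id]
    rintro _ ⟨z, hz, rfl⟩
    exact hg hz
  · rw [← Scheme.Opens.ι_image_basicOpen_topIso_inv, ← CommRingCat.comp_apply, Iso.hom_inv_id]
    exact ⟨⟨z, (hEW hz).2⟩, hEg hz, rfl⟩

theorem mem_basicOpen_prod {X : Scheme.{u}} {U : X.Opens} {ι : Type*} (s : Finset ι) (a : ι → Γ(X, U))
    {x : X} (hx : x ∈ U) : x ∈ X.basicOpen (∏ i ∈ s, a i) ↔ ∀ i ∈ s, x ∈ X.basicOpen (a i) := by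
  rw [Scheme.mem_basicOpen X _ x hx, map_prod, IsUnit.prod_iff]
  simp only [← Scheme.mem_basicOpen X _ x hx]

theorem eq_of_specializes_smul {P : Scheme.{u}} {G : Type u} [Group G] [Finite G] (ρ : G →* Aut P) (g : G)
    {y : P} (h : y ⤳ (ρ g).hom y) : (ρ g).hom y = y := by
  have hk : ∀ n : ℕ, (ρ g).hom y ⤳ (ρ (g ^ (n + 1))).hom y := by
    intro n
    induction n with
    | zero => rw [zero_add, pow_one]
    | succ n ih =>
      refine ih.trans ?_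
      have := h.map (ρ (g ^ (n + 1))).hom.continuous
      rwa [IsQuot25.act_apply_apply, ← pow_succ] at this
  obtain ⟨N, hN, hN1⟩ := (isOfFinOrder_of_finite g).exists_pow_eq_one
  obtain ⟨m, rfl⟩ := Nat.exists_eq_add_of_le' hN
  have h2 := hk m
  rw [hN1, IsQuot25.map_one_hom] at h2
  exact (h.antisymm h2).eq.symm

theorem smul_prod_subgroup {G M : Type*} [Group G] [CommMonoid M] [MulDistribMulAction G M] (H : Subgroup G)
    [Fintype H] (a : M) {τ : G} (hτ : τ ∈ H) : τ • ∏ g : H, (g : G) • a = ∏ g : H, (g : G) • a := by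
  rw [Finset.smul_prod']
  refine Fintype.prod_equiv (Equiv.mulLeft ⟨τ, hτ⟩) _ _ fun g => ?_
  rw [smul_smul, Equiv.coe_mulLeft, Subgroup.coe_mul]

theorem inf_basicOpen_eq {P : Scheme.{u}} {O W B : P.Opens} (hW : O ≤ W) (hB : O ≤ B) (a : Γ(P, W))
    (c : Γ(P, B)) {u : Γ(P, O)} (hu : IsUnit u)
    (h : P.presheaf.map (homOfLE hW).op a * u = P.presheaf.map (homOfLE hB).op c) :
    O ⊓ P.basicOpen a = O ⊓ P.basicOpen c := by
  have := congrArg P.basicOpen h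
  rw [Scheme.basicOpen_mul, Scheme.basicOpen_res, Scheme.basicOpen_res, P.basicOpen_of_isUnit hu,
    inf_eq_left.2 (inf_le_left (b := P.basicOpen a))] at this
  exact this

variable {X S : Scheme.{u}} {f : X ⟶ S} {d : ℕ} {P Y : Scheme.{u}} {D : FP f d P}
  {ρ : Gd.{u} d →* Aut P} {p : P ⟶ Y}

/-- The action on sections over the preimage of an open of the base. -/
noncomputable abbrev acton (hinv : ∀ σ, (ρ σ).hom ≫ p = p) (Uy : Y.Opens) :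
    MulSemiringAction (Gd.{u} d) Γ(P, p ⁻¹ᵁ Uy) :=
  IsQuot25.action hinv Uy

/-- The structure over an open of the base. -/
noncomputable abbrev algW (D : FP f d P) {V : S.Opens} {W : P.Opens} (hWV : W ≤ D.base ⁻¹ᵁ V) :
    Algebra Γ(S, V) Γ(P, W) :=
  (D.base.appLE V W hWV).hom.toAlgebra

theorem smulComm (hρ : D.IsAct ρ) (hinv : ∀ σ, (ρ σ).hom ≫ p = p) (Uy : Y.Opens) {V : S.Opens}
    (hWV : p ⁻¹ᵁ Uy ≤ D.base ⁻¹ᵁ V) :
    letI := acton hinv Uy; letI := algW D hWV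
    SMulCommClass (Gd.{u} d) Γ(S, V) Γ(P, p ⁻¹ᵁ Uy) := by
  let _ := acton hinv Uy
  let _ := algW D hWV
  refine ⟨fun g r c => ?_⟩
  show IsQuot25.actHom hinv Uy g⁻¹ (D.base.appLE V _ hWV r * c) =
    D.base.appLE V _ hWV r * IsQuot25.actHom hinv Uy g⁻¹ c
  rw [map_mul]
  congr 1
  rw [IsQuot25.actHom, ← CommRingCat.comp_apply, Scheme.Hom.appLE_comp_appLE]
  simp only [hρ.base]

theorem mem_basicOpen_smul (hinv : ∀ σ, (ρ σ).hom ≫ p = p) (Uy : Y.Opens) (σ : Gd.{u} d)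
    (s : Γ(P, p ⁻¹ᵁ Uy)) {z : P} (hz : z ∈ p ⁻¹ᵁ Uy) :
    letI := acton hinv Uy
    z ∈ P.basicOpen (σ • s) ↔ (ρ σ⁻¹).hom z ∈ P.basicOpen s := by
  let _ := acton hinv Uy
  show z ∈ P.basicOpen ((ρ σ⁻¹).hom.appLE (p ⁻¹ᵁ Uy) (p ⁻¹ᵁ Uy)
    (SGA1.preimage_le_of_inv ρ p hinv σ⁻¹ Uy) s) ↔ _
  rw [basicOpen_appLE]
  exact ⟨fun h => h.2, fun h => ⟨hz, h⟩⟩

theorem mem_B_smul (hρ : D.IsAct ρ) {V : S.Opens} (b : Box f d V) {τ : Gd.{u} d} (hτ : τ ∈ b.H)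
    {z : P} (hz : z ∈ b.B D) : (ρ τ).hom z ∈ b.B D := by
  rw [Box.mem_B] at hz ⊢
  refine ⟨?_, fun i => ?_⟩
  · rw [← Scheme.Hom.comp_apply, hρ.base]
    exact hz.1
  · rw [← Scheme.Hom.comp_apply, hρ.π, ← hτ i]
    exact hz.2 _

theorem mem_basicOpen_ψ_smul (hρ : D.IsAct ρ) {V : S.Opens} (b : Box f d V) {τ : Gd.{u} d} (hτ : τ ∈ b.H)
    (t : Tpow Γ(S, V) b.A d) {z : P} (hz : z ∈ b.B D) :
    z ∈ P.basicOpen (b.ψ D le_rfl (τ • t)) ↔ (ρ τ⁻¹).hom z ∈ P.basicOpen (b.ψ D le_rfl t) := by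
  rw [← b.ψ_smul D le_rfl hρ hτ (fun z hz => mem_B_smul hρ b (b.H.inv_mem hτ) hz) t, basicOpen_appLE]
  exact ⟨fun h => h.2, fun h => ⟨hz, h⟩⟩

/-- A cut: an invariant function on `W` and a tensor cutting out the same open of a box. -/
structure IsCut (hinv : ∀ σ, (ρ σ).hom ≫ p = p) (Uy : Y.Opens) {V : S.Opens} (b : Box f d V)
    (h : Γ(P, p ⁻¹ᵁ Uy)) (v : Tpow Γ(S, V) b.A d) : Prop where
  h_fix : ∀ τ ∈ b.H, IsQuot25.actHom hinv Uy τ⁻¹ h = h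
  dvd : b.e ∣ v
  v_fix : ∀ τ ∈ b.H, τ • v = v
  le : P.basicOpen h ≤ b.B D
  eq : P.basicOpen h = P.basicOpen (b.ψ D le_rfl v)

set_option maxHeartbeats 800000 in
theorem exists_cut_of_box (hρ : D.IsAct ρ) (hinv : ∀ σ, (ρ σ).hom ≫ p = p) {Uy : Y.Opens}
    (hW : IsAffineOpen (p ⁻¹ᵁ Uy)) {V : S.Opens} (b : Box f d V)
    {x : P} (hx : x ∈ p ⁻¹ᵁ Uy) (hxB : x ∈ b.B D)
    (hbad : ∀ τ ∈ b.H, (ρ τ).hom x ∉ closure ((fun τ : Gd.{u} d => (ρ τ).hom x) '' (b.H : Set (Gd.{u} d))ᶜ)) :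
    letI := acton hinv Uy
    ∃ (h : Γ(P, p ⁻¹ᵁ Uy)) (v : Tpow Γ(S, V) b.A d),
      IsCut (D := D) hinv Uy b h v ∧ x ∈ P.basicOpen h ∧ ∀ σ, σ ∉ b.H → x ∉ P.basicOpen (σ • h) := by
  classical
  let _ := acton hinv Uy
  let W := p ⁻¹ᵁ Uy
  have hWinv : ∀ σ, (ρ σ).hom x ∈ W := fun σ => SGA1.preimage_le_of_inv ρ p hinv σ Uy hx
  let good : Set P := (fun τ : Gd.{u} d => (ρ τ).hom x) '' (b.H : Set (Gd.{u} d))
  let C : P.Opens := ⟨(closure ((fun τ : Gd.{u} d => (ρ τ).hom x) '' (b.H : Set (Gd.{u} d))ᶜ))ᶜ, isClosed_closure.isOpen_compl⟩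
  have hgood : good ⊆ (W ⊓ b.B D : P.Opens) := by
    rintro _ ⟨τ, hτ, rfl⟩
    exact ⟨hWinv τ, mem_B_smul hρ b hτ hxB⟩
  have hB0 : P.basicOpen (b.ψ D le_rfl b.e) = b.B D := by
    rw [b.ψ_e, Scheme.basicOpen_of_isUnit _ isUnit_one]
  obtain ⟨hBaff, -, hsurj, -⟩ := b.isAffineOpen_and_localization D le_rfl b.e dvd_rfl hB0.symm
  obtain ⟨g, hgW, hgE⟩ := exists_basicOpen_of_finite hBaff W ((Set.toFinite _).image _) hgood
  obtain ⟨t, n, ht⟩ := hsurj g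
  rw [b.ψ_e, one_pow, mul_one] at ht
  subst ht
  let O₁ : P.Opens := P.basicOpen (b.ψ D le_rfl t)
  have hgood₁ : good ⊆ (O₁ ⊓ C ⊓ W : P.Opens) := by
    rintro _ ⟨τ, hτ, rfl⟩
    exact ⟨⟨hgE ⟨τ, hτ, rfl⟩, hbad τ hτ⟩, hWinv τ⟩
  obtain ⟨h₀, hh₀, hh₀E⟩ := exists_basicOpen_of_finite hW (O₁ ⊓ C) ((Set.toFinite _).image _) hgood₁
  have hO₁B : O₁ ≤ b.B D := Scheme.basicOpen_le _ _
  have hO₁eq : O₁ = P.basicOpen (b.ψ D le_rfl (b.e * t)) := by rw [map_mul, b.ψ_e, one_mul]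
  obtain ⟨-, hu₁, hsurj₁, -⟩ := b.isAffineOpen_and_localization D hO₁B (b.e * t) (dvd_mul_right _ _) hO₁eq
  obtain ⟨t₁, n₁, ht₁⟩ := hsurj₁ (P.presheaf.map (homOfLE hgW).op h₀)
  let u₀ := b.e * t * t₁
  have hu₀ : P.basicOpen h₀ = P.basicOpen (b.ψ D le_rfl u₀) := by
    rw [b.ψ_res D le_rfl hO₁B t₁ |>.symm] at ht₁
    have e := inf_basicOpen_eq hgW hO₁B h₀ (b.ψ D le_rfl t₁) (hu₁.pow n₁) ht₁
    rw [inf_eq_right.2 (hh₀.trans inf_le_left)] at e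
    rw [e]
    simp only [u₀, map_mul, b.ψ_e, one_mul, Scheme.basicOpen_mul]
  haveI : Fintype b.H := Fintype.ofFinite _
  let h : Γ(P, W) := ∏ τ : b.H, (τ : Gd.{u} d) • h₀
  let v : Tpow Γ(S, V) b.A d := ∏ τ : b.H, (τ : Gd.{u} d) • u₀
  have hmem : ∀ z ∈ W, z ∈ P.basicOpen h ↔ ∀ τ : b.H, (ρ (τ : Gd.{u} d)⁻¹).hom z ∈ P.basicOpen h₀ := by
    intro z hz
    rw [mem_basicOpen_prod _ _ hz]
    exact ⟨fun h' τ => (mem_basicOpen_smul hinv Uy _ h₀ hz).1 (h' τ (Finset.mem_univ _)),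
      fun h' τ _ => (mem_basicOpen_smul hinv Uy _ h₀ hz).2 (h' τ)⟩
  have hh0 : ∀ z, z ∈ P.basicOpen h → z ∈ P.basicOpen h₀ := fun z hz => by
    have := (hmem z (P.basicOpen_le _ hz)).1 hz 1
    rwa [OneMemClass.coe_one, inv_one, IsQuot25.map_one_hom] at this
  refine ⟨h, v, ⟨fun τ hτ => ?_, ?_, fun τ hτ => ?_, fun z hz => ?_, ?_⟩, ?_, fun σ hσ hcon => ?_⟩
  · show τ • h = h
    exact smul_prod_subgroup b.H h₀ hτ
  · refine dvd_trans ?_ (Finset.dvd_prod_of_mem _ (Finset.mem_univ (1 : b.H)))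
    rw [OneMemClass.coe_one, one_smul]
    exact dvd_mul_of_dvd_left (dvd_mul_right _ _) _
  · exact smul_prod_subgroup b.H u₀ hτ
  · exact hO₁B (hh₀ (hh0 z hz)).1
  · ext z
    constructor
    · intro hz
      have hzW : z ∈ W := P.basicOpen_le _ hz
      have hzB : z ∈ b.B D := hO₁B (hh₀ (hh0 z hz)).1
      show z ∈ P.basicOpen (b.ψ D le_rfl v)
      simp only [v, map_prod]
      rw [mem_basicOpen_prod _ _ hzB]
      intro τ _
      rw [mem_basicOpen_ψ_smul hρ b τ.2 _ hzB, ← hu₀]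
      exact (hmem z hzW).1 hz τ
    · intro hz
      have hzB : z ∈ b.B D := P.basicOpen_le _ hz
      simp only [v, map_prod] at hz
      rw [SetLike.mem_coe, mem_basicOpen_prod _ _ hzB] at hz
      have hzW : z ∈ W := by
        have h1 := (mem_basicOpen_ψ_smul hρ b (1 : b.H).2 _ hzB).1 (hz 1 (Finset.mem_univ _))
        rw [← hu₀, OneMemClass.coe_one, inv_one, IsQuot25.map_one_hom] at h1
        exact P.basicOpen_le _ h1
      refine (hmem z hzW).2 fun τ => ?_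
      rw [hu₀, ← mem_basicOpen_ψ_smul hρ b τ.2 _ hzB]
      exact hz τ (Finset.mem_univ _)
  · refine (hmem x hx).2 fun τ => hh₀E ⟨_, b.H.inv_mem τ.2, rfl⟩
  · rw [mem_basicOpen_smul hinv Uy σ h hx] at hcon
    exact (hh₀ (hh0 _ hcon)).2 (subset_closure ⟨σ⁻¹, fun hh => hσ (by simpa using b.H.inv_mem hh), rfl⟩)


/-- Existence of cuts. -/
theorem exists_cut (hρ : D.IsAct ρ) (hinv : ∀ σ, (ρ σ).hom ≫ p = p) {Uy : Y.Opens}
    (hW : IsAffineOpen (p ⁻¹ᵁ Uy)) {V : S.Opens} (hV : IsAffineOpen V)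
    (hWV : p ⁻¹ᵁ Uy ≤ D.base ⁻¹ᵁ V) {x : P} (hx : x ∈ p ⁻¹ᵁ Uy) :
    letI := acton hinv Uy
    ∃ (b : Box f d V) (h : Γ(P, p ⁻¹ᵁ Uy)) (v : Tpow Γ(S, V) b.A d),
      IsCut (D := D) hinv Uy b h v ∧ x ∈ P.basicOpen h ∧ ∀ σ, σ ∉ b.H → x ∉ P.basicOpen (σ • h) := by
  classical
  let _ := acton hinv Uy
  let W := p ⁻¹ᵁ Uy
  let J : Type u := ↥(Set.range fun i => D.π i x)
  have hJ : ∀ j : J, ∃ U : X.Opens, IsAffineOpen U ∧ j.1 ∈ U ∧ U ≤ f ⁻¹ᵁ V := by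
    rintro ⟨_, i, rfl⟩
    have : D.π i x ∈ f ⁻¹ᵁ V := by
      show f (D.π i x) ∈ V
      rw [← Scheme.Hom.comp_apply, D.w]
      exact hWV hx
    exact exists_isAffineOpen_mem_and_subset this
  choose U hU hjU hUV using hJ
  let b : Box f d V := ⟨hV, J, (Set.finite_range _).to_subtype, U, hU, hUV, fun i => ⟨_, i, rfl⟩⟩
  have hφ : ∀ i, (b.φ i).1 = D.π i x := fun i => rfl
  have hxB : x ∈ b.B D := (b.mem_B D).2 ⟨hWV hx, fun i => hjU _⟩
  let bad : Set P := (fun τ : Gd.{u} d => (ρ τ).hom x) '' (b.H : Set (Gd.{u} d))ᶜ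
  have hbad : ∀ τ ∈ b.H, (ρ τ).hom x ∉ closure bad := by
    intro τ hτ hcl
    rw [← Set.biUnion_of_singleton bad, ((Set.toFinite _).image _).closure_biUnion, Set.mem_iUnion₂] at hcl
    obtain ⟨_, ⟨σ, hσ, rfl⟩, hsp⟩ := hcl
    rw [← specializes_iff_mem_closure] at hsp
    have h1 := hsp.map (ρ σ⁻¹).hom.continuous
    rw [IsQuot25.inv_apply_apply, IsQuot25.act_apply_apply] at h1
    have h2 := congrArg (fun z => (ρ σ).hom z) (eq_of_specializes_smul ρ _ h1)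
    simp only [IsQuot25.act_apply_apply, mul_inv_cancel_left] at h2
    refine hσ fun i => Subtype.ext ?_
    rw [hφ, hφ]
    have h3 := congrArg (D.π i) h2
    rw [← Scheme.Hom.comp_apply, ← Scheme.Hom.comp_apply, hρ.π, hρ.π] at h3
    rw [← h3, ← hφ, hτ i]
  exact ⟨b, exists_cut_of_box hρ hinv hW b hx hxB hbad⟩

/-- The model attached to a cut. -/
noncomputable def IsCut.model (hρ : D.IsAct ρ) {hinv : ∀ σ, (ρ σ).hom ≫ p = p} {Uy : Y.Opens}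
    (hW : IsAffineOpen (p ⁻¹ᵁ Uy)) {V : S.Opens} (hWV : p ⁻¹ᵁ Uy ≤ D.base ⁻¹ᵁ V) {b : Box f d V}
    {h : Γ(P, p ⁻¹ᵁ Uy)} {v : Tpow Γ(S, V) b.A d} (hc : IsCut (D := D) hinv Uy b h v) :
    letI := acton hinv Uy; letI := algW D hWV; letI := b.algO D hc.le
    Model Γ(S, V) (Gd.{u} d) Γ(P, p ⁻¹ᵁ Uy) (Tpow Γ(S, V) b.A d) Γ(P, P.basicOpen h) :=
  letI := acton hinv Uy
  letI := algW D hWV
  letI := b.algO D hc.le
  haveI := hW.isLocalization_basicOpen h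
  have hstab : ∀ τ ∈ b.H, P.basicOpen h ≤ (ρ τ⁻¹).hom ⁻¹ᵁ P.basicOpen h := fun τ hτ z hz => by
    have e : P.basicOpen (IsQuot25.actHom hinv Uy τ⁻¹ h) = P.basicOpen h := by rw [hc.h_fix τ hτ]
    rw [← e, IsQuot25.actHom, basicOpen_appLE] at hz
    exact hz.2
  { H := b.H
    ψ := b.ψ D hc.le
    res :=
      { toRingHom := (P.presheaf.map (homOfLE (P.basicOpen_le h)).op).hom
        commutes' := fun r => by
          show P.presheaf.map _ (D.base.appLE V _ hWV r) = D.base.appLE V _ (b.le_base D hc.le) r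
          rw [← CommRingCat.comp_apply, Scheme.Hom.appLE_map] }
    act := fun τ => open Classical in
      if hτ : τ ∈ b.H then ((ρ τ⁻¹).hom.appLE _ _ (hstab τ hτ)).hom else RingHom.id _
    act_ψ := fun τ hτ t => by
      rw [dif_pos hτ]
      exact b.ψ_smul D hc.le hρ hτ (hstab τ hτ) t
    act_res := fun τ hτ c => by
      rw [dif_pos hτ]
      show (ρ τ⁻¹).hom.appLE _ _ (hstab τ hτ) (P.presheaf.map _ c) =
        P.presheaf.map _ (IsQuot25.actHom hinv Uy τ⁻¹ c)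
      rw [IsQuot25.actHom, ← CommRingCat.comp_apply, ← CommRingCat.comp_apply, Scheme.Hom.map_appLE,
        Scheme.Hom.appLE_map]
    v := v
    v_fix := hc.v_fix
    v_orth := fun σ hσ => b.mul_smul_eq_zero hc.dvd hσ
    ψ_unit := (b.isAffineOpen_and_localization D hc.le v hc.dvd hc.eq).2.1
    ψ_surj := (b.isAffineOpen_and_localization D hc.le v hc.dvd hc.eq).2.2.1
    ψ_ker := (b.isAffineOpen_and_localization D hc.le v hc.dvd hc.eq).2.2.2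
    h := h
    h_fix := hc.h_fix
    res_unit := IsLocalization.Away.algebraMap_isUnit (S := Γ(P, P.basicOpen h)) h
    res_surj := fun z => by
      obtain ⟨n, c, hz⟩ := IsLocalization.Away.surj h z
      exact ⟨c, n, hz⟩
    res_ker := fun c hc' => by
      obtain ⟨⟨-, n, rfl⟩, hn⟩ :=
        (IsLocalization.map_eq_zero_iff (Submonoid.powers h) Γ(P, P.basicOpen h) c).1 hc'
      exact ⟨n, hn⟩ }

end Groth.Agent.SymFlat14
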