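import Groth.Agent.Lib.SymFlat14.Box
import Groth.Agent.Lib.IsQuot25.Local
import Mathlib.AlgebraicGeometry.Morphisms.ClosedImmersion

/-!
# Fibre powers of closed immersions; closed immersions of quotients by averaging
-/

set_option autoImplicit false
set_option backward.isDefEq.respectTransparency.types false
universe u

open CategoryTheory CategoryTheory.Limits AlgebraicGeometry TopologicalSpace

namespace Groth.Agent.SymFlat14

variable {X S : Scheme.{u}}

/-- The fibre power of a closed immersion is a closed immersion. -/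
theorem isClosedImmersion_fibPowMap {Z : Scheme.{u}} (i : Z ⟶ X) [IsClosedImmersion i] (f : X ⟶ S) (d : ℕ) :
    IsClosedImmersion (SymProd.fibPowMap (i ≫ f) d f i rfl) := by
  classical
  let c := SymProd.fibPowMap (i ≫ f) d f i rfl
  have hc : ∀ j, c ≫ WidePullback.π _ j = WidePullback.π _ j ≫ i := fun j =>
    SymProd.fibPowMap_π (i ≫ f) d f i rfl j
  haveI : Mono c := by
    refine ⟨fun {T} g h e => WidePullback.hom_ext _ _ _ (fun j => ?_) ?_⟩
    · rw [← cancel_mono i, Category.assoc, Category.assoc, ← hc, reassoc_of% e]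
    · have := congrArg (· ≫ WidePullback.base _) e
      simpa [c] using this
  suffices h : ∀ s : Finset (Fin d), ∃ (T : Scheme.{u}) (j : T ⟶ SymProd.fibPow f d),
      IsClosedImmersion j ∧ (∀ k ∈ s, ∃ t, t ≫ i = j ≫ WidePullback.π _ k) ∧
        ∃ l, l ≫ j = c by
    obtain ⟨T, j, hj, ht, l, hl⟩ := h Finset.univ
    choose t ht using fun k => ht k (Finset.mem_univ k)
    let back : T ⟶ SymProd.fibPow (i ≫ f) d := WidePullback.lift (j ≫ WidePullback.base _) t fun k => by
      rw [reassoc_of% (ht k), WidePullback.π_arrow]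
    have hb : back ≫ c = j := by
      refine WidePullback.hom_ext _ _ _ (fun k => ?_) ?_
      · rw [Category.assoc, hc, WidePullback.lift_π_assoc, ht]
      · rw [Category.assoc, SymProd.fibPowMap_base, WidePullback.lift_base]
    have h1 : back ≫ l = 𝟙 T := by
      rw [← cancel_mono j, Category.assoc, hl, hb, Category.id_comp]
    have h2 : l ≫ back = 𝟙 _ := by
      rw [← cancel_mono c, Category.assoc, hb, hl, Category.id_comp]
    haveI : IsIso l := ⟨back, h2, h1⟩
    show IsClosedImmersion c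
    rw [← hl]
    infer_instance
  intro s
  induction s using Finset.induction_on with
  | empty => exact ⟨_, 𝟙 _, inferInstance, fun k hk => absurd hk (Finset.notMem_empty k), c, Category.comp_id c⟩
  | insert k s hk ih =>
    obtain ⟨T, j, hj, ht, l, hl⟩ := ih
    refine ⟨pullback (j ≫ WidePullback.π _ k) i, pullback.fst _ _ ≫ j, inferInstance, fun k' hk' => ?_,
      pullback.lift l (WidePullback.π _ k) (by rw [reassoc_of% hl, hc]), by rw [pullback.lift_fst_assoc, hl]⟩
    rcases Finset.mem_insert.1 hk' with rfl | hk'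
    · exact ⟨pullback.snd _ _, by rw [← pullback.condition, Category.assoc]⟩
    · obtain ⟨t, ht⟩ := ht k' hk'
      exact ⟨pullback.fst _ _ ≫ t, by rw [Category.assoc, ht, Category.assoc]⟩

/-- A map of quotients induced by a closed immersion is one when the order is invertible. -/
theorem isClosedImmersion_of_invertible {P P' Y Y' : Scheme.{u}} {G : Type u} [Group G] [Finite G]
    {ρ : G →* Aut P} {ρ' : G →* Aut P'} {q : P ⟶ Y} {r : P' ⟶ Y'} (hq : SGA1.IsQuot ρ q) (hr : SGA1.IsQuot ρ' r)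
    (hcard : ∀ U : Y.Opens, IsUnit ((Nat.card G : ℕ) : Γ(Y, U)))
    (c : P' ⟶ P) [IsClosedImmersion c] (hcρ : ∀ g, (ρ' g).hom ≫ c = c ≫ (ρ g).hom)
    (m : Y' ⟶ Y) [IsAffineHom m] (hm : r ≫ m = c ≫ q) : IsClosedImmersion m := by
  rw [isClosedImmersion_iff_isAffineHom]
  refine ⟨inferInstance, fun U hU w => ?_⟩
  haveI := hq.affine
  cases nonempty_fintype G
  have hle : r ⁻¹ᵁ (m ⁻¹ᵁ U) ≤ c ⁻¹ᵁ (q ⁻¹ᵁ U) := by
    rw [← Scheme.Hom.comp_preimage r m, hm]
    rfl
  have hWeq : c ⁻¹ᵁ (q ⁻¹ᵁ U) = r ⁻¹ᵁ (m ⁻¹ᵁ U) := by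
    rw [← Scheme.Hom.comp_preimage c q, ← hm]
    rfl
  let φ := c.appLE (q ⁻¹ᵁ U) (r ⁻¹ᵁ (m ⁻¹ᵁ U)) hle
  have hsurj : Function.Surjective φ := by
    intro z
    obtain ⟨z', rfl⟩ : ∃ z', P'.presheaf.map (eqToHom hWeq.symm).op z' = z :=
      (ConcreteCategory.bijective_of_isIso (P'.presheaf.map (eqToHom hWeq.symm).op)).2 z
    obtain ⟨u, rfl⟩ := c.app_surjective _ (hU.preimage q) z'
    exact ⟨u, rfl⟩
  obtain ⟨z, hz⟩ := hsurj (r.app _ w)
  have hsum : ∑ g, IsQuot25.actHom hq.inv U g z ∈ Set.range (q.app U) := by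
    refine (IsQuot25.mem_range_iff hq U _).2 fun h => ?_
    rw [map_sum]
    refine Fintype.sum_equiv (Equiv.mulRight h) _ _ fun g => ?_
    exact (congr($(IsQuot25.actHom_mul hq.inv U g h) z)).symm
  obtain ⟨u, hu⟩ := hsum
  obtain ⟨v, hv⟩ := (hcard U).exists_left_inv
  refine ⟨v * u, hr.injective _ ?_⟩
  have h1 : r.app _ (m.app U u) = φ (q.app U u) := by
    show (m.app U ≫ r.app _) u = (q.app U ≫ φ) u
    rw [← Scheme.Hom.comp_app, q.app_eq_appLE, Scheme.Hom.appLE_comp_appLE, Scheme.Hom.app_eq_appLE,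
      IsQuot25.appLE_eq hm]
    rfl
  have h2 : φ (∑ g, IsQuot25.actHom hq.inv U g z) = (Nat.card G : Γ(P', r ⁻¹ᵁ (m ⁻¹ᵁ U))) * r.app _ w := by
    rw [map_sum, Finset.sum_congr rfl (g := fun _ => r.app _ w) fun g _ => ?_, Finset.sum_const,
      Finset.card_univ, nsmul_eq_mul, Nat.card_eq_fintype_card]
    have : IsQuot25.actHom hq.inv U g ≫ φ = φ ≫ IsQuot25.actHom hr.inv (m ⁻¹ᵁ U) g := by
      simp only [IsQuot25.actHom, φ, Scheme.Hom.appLE_comp_appLE, hcρ]
    have h3 : φ (IsQuot25.actHom hq.inv U g z) = IsQuot25.actHom hr.inv (m ⁻¹ᵁ U) g (φ z) := congr($this z)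
    rw [h3, hz]
    exact congr($(IsQuot25.actHom_app hr.inv (m ⁻¹ᵁ U) g) w)
  show r.app _ (m.app U (v * u)) = r.app _ w
  rw [map_mul, map_mul, h1, hu, h2, ← mul_assoc, ← map_natCast (r.app (m ⁻¹ᵁ U)).hom,
    ← map_natCast (m.app U).hom, ← map_mul, ← map_mul, ← map_mul, hv, map_one, one_mul]

end Groth.Agent.SymFlat14
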