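import Groth.Agent.Lib.SymZeta13.BaseChange

/-!
# Base change of quotients when the order of the group is invertible on the new base
-/

set_option autoImplicit false
set_option backward.isDefEq.respectTransparency.types false
universe u

open CategoryTheory CategoryTheory.Limits AlgebraicGeometry TopologicalSpace TensorProduct

namespace Groth.Agent.SymFlat14

open Groth.Agent.IsQuot25

variable {X Y : Scheme.{u}} {G : Type u} [Group G] [Finite G] {ρ : G →* Aut X} {p : X ⟶ Y}

/-- Base change of quotients by a group whose order is invertible on the new base. -/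
theorem baseChange_invertible_target (hp : SGA1.IsQuot ρ p) {X' Y' : Scheme.{u}} (qY : Y' ⟶ Y)
    (hcard : ∀ U : Y'.Opens, IsUnit ((Nat.card G : ℕ) : Γ(Y', U)))
    (pX : X' ⟶ X) (p' : X' ⟶ Y') (hX : IsPullback pX p' p qY)
    (ρ' : G →* Aut X') (hρ₁ : ∀ g : G, (ρ' g).hom ≫ pX = pX ≫ (ρ g).hom)
    (hρ₂ : ∀ g : G, (ρ' g).hom ≫ p' = p') : SGA1.IsQuot ρ' p' := by
  refine of_affineCover (MorphismProperty.of_isPullback hX hp.affine) hρ₂ fun y' => ?_
  obtain ⟨U, hU, hyU, -⟩ :=
    exists_isAffineOpen_mem_and_subset (show qY y' ∈ (⊤ : Y.Opens) from trivial)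
  obtain ⟨U', hU', hyU', hle⟩ :=
    exists_isAffineOpen_mem_and_subset (show y' ∈ qY ⁻¹ᵁ U from hyU)
  refine ⟨U', hU', hyU', ?_⟩
  have hle' : U' ≤ qY ⁻¹ᵁ U := hle
  have hV := isAffineOpen_preimage hp hU
  have hUY : p' ⁻¹ᵁ U' = pX ⁻¹ᵁ (p ⁻¹ᵁ U) ⊓ p' ⁻¹ᵁ U' := by
    refine le_antisymm (le_inf (fun x hx => ?_) le_rfl) inf_le_right
    have h1 : qY (p' x) ∈ U := hle' hx
    rw [← Scheme.Hom.comp_apply, ← hX.w, Scheme.Hom.comp_apply] at h1
    exact h1
  have hle'' : p' ⁻¹ᵁ U' ≤ pX ⁻¹ᵁ (p ⁻¹ᵁ U) := hUY.le.trans inf_le_left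
  have hpo := (isIso_pushoutSection_iff hX hle' le_rfl hUY).1
    (isIso_pushoutSection_of_isAffineOpen hX hle' le_rfl hUY hU hU' hV)
  let A := Γ(Y, U)
  let B := Γ(X, p ⁻¹ᵁ U)
  let A' := Γ(Y', U')
  let B' := Γ(X', p' ⁻¹ᵁ U')
  let j : A ⟶ A' := qY.appLE U U' hle'
  let i : A ⟶ B := p.app U
  let k : B ⟶ B' := pX.appLE (p ⁻¹ᵁ U) (p' ⁻¹ᵁ U') hle''
  let i' : A' ⟶ B' := p'.app U'
  have hw : i ≫ k = j ≫ i' := by
    have := hpo.w
    simpa only [i, j, k, i', Scheme.Hom.app_eq_appLE] using this
  letI : Algebra A A' := j.hom.toAlgebra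
  letI : Algebra A B := i.hom.toAlgebra
  letI : Algebra B B' := k.hom.toAlgebra
  letI : Algebra A' B' := i'.hom.toAlgebra
  letI : Algebra A B' := (i ≫ k).hom.toAlgebra
  haveI : IsScalarTower A B B' := .of_algebraMap_eq' rfl
  haveI : IsScalarTower A A' B' := .of_algebraMap_eq' (congrArg CommRingCat.Hom.hom hw)
  haveI : Algebra.IsPushout A A' B B' := by
    rw [← CommRingCat.isPushout_iff_isPushout]
    have := hpo.flip
    simpa only [A, B, A', B', i, j, k, i', RingHom.algebraMap_toAlgebra, CommRingCat.ofHom_hom,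
      Scheme.Hom.app_eq_appLE] using this
  let e := Algebra.IsPushout.equiv A A' B B'
  let act : G → B →ₗ[A] B := fun g =>
    { toFun := fun b => actHom hp.inv U g b
      map_add' := fun a b => map_add (actHom hp.inv U g).hom a b
      map_smul' := fun a b => by
        show actHom hp.inv U g (i a * b) = i a * actHom hp.inv U g b
        rw [map_mul]
        exact congrArg (· * _) congr($(actHom_app hp.inv U g) a) }
  have hk : ∀ g b, actHom hρ₂ U' g (k b) = k (actHom hp.inv U g b) := fun g b => by
    have : k ≫ actHom hρ₂ U' g = actHom hp.inv U g ≫ k := by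
      rw [actHom, actHom, Scheme.Hom.appLE_comp_appLE, Scheme.Hom.appLE_comp_appLE,
        appLE_eq (hρ₁ g)]
    exact congr($this b)
  have heq : ∀ (g : G) (x : A' ⊗[A] B), actHom hρ₂ U' g (e x) = e ((act g).lTensor A' x) := by
    intro g x
    induction x with
    | zero => simp
    | tmul a b =>
      rw [LinearMap.lTensor_tmul, Algebra.IsPushout.equiv_tmul, Algebra.IsPushout.equiv_tmul]
      show actHom hρ₂ U' g (i' a * k b) = i' a * k (actHom hp.inv U g b)
      rw [map_mul, hk]
      exact congrArg (· * _) congr($(actHom_app hρ₂ U' g) a)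
    | add x y hx hy => simp only [map_add, hx, hy]
  let iL : A →ₗ[A] B := Algebra.linearMap A B
  cases nonempty_fintype G
  let S : B →ₗ[A] B := ∑ g, act g
  have hS : ∀ b, S b ∈ LinearMap.range iL := fun b => by
    have : S b ∈ Set.range (p.app U).hom := (hp.range_iff U (S b)).2 fun h => by
      show act h (S b) = S b
      simp only [S, LinearMap.sum_apply, map_sum]
      refine Fintype.sum_equiv (Equiv.mulRight h) _ _ fun g => ?_
      show actHom hp.inv U h (actHom hp.inv U g b) = actHom hp.inv U (g * h) b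
      exact (congr($(actHom_mul hp.inv U g h) b)).symm
    obtain ⟨a, ha⟩ := this
    exact ⟨a, ha⟩
  let r : B →ₗ[A] A :=
    (LinearEquiv.ofInjective iL (hp.injective U)).symm.toLinearMap ∘ₗ S.codRestrict _ hS
  have hir : iL ∘ₗ r = S := LinearMap.ext fun b =>
    congrArg Subtype.val ((LinearEquiv.ofInjective iL (hp.injective U)).apply_symm_apply ⟨S b, hS b⟩)
  have hfix : ∀ b, (∀ g, act g b = b) → S b = Nat.card G • b := fun b hb => by
    simp only [S, LinearMap.sum_apply, hb, Finset.sum_const, Finset.card_univ, Nat.card_eq_fintype_card]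
  have hri : r ∘ₗ iL = (Nat.card G : A) • LinearMap.id := LinearMap.ext fun a => hp.injective U (by
    show iL (r (iL a)) = iL ((Nat.card G : A) • a)
    rw [← LinearMap.comp_apply, hir, map_smul, Nat.cast_smul_eq_nsmul]
    exact hfix _ fun g => congr($(actHom_app hp.inv U g) a))
  have he : ∀ z : A' ⊗[A] A, e (iL.lTensor A' z) = i' (TensorProduct.rid A A' z) := by
    intro z
    induction z with
    | zero => simp
    | tmul a b =>
      rw [LinearMap.lTensor_tmul, Algebra.IsPushout.equiv_tmul, TensorProduct.rid_tmul]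
      show i' a * k (i b) = i' (j b * a)
      rw [show k (i b) = i' (j b) from congr($hw b), map_mul, mul_comm]
    | add x y hx hy => simp only [map_add, hx, hy]
  obtain ⟨c, hc⟩ := (hcard U').exists_left_inv
  constructor
  · intro a a' h
    obtain ⟨z, rfl⟩ := (TensorProduct.rid A A').surjective a
    obtain ⟨z', rfl⟩ := (TensorProduct.rid A A').surjective a'
    have h' : e (iL.lTensor A' z) = e (iL.lTensor A' z') := by rw [he, he]; exact h
    have h'' := congrArg (r.lTensor A') (e.injective h')
    rw [← LinearMap.comp_apply, ← LinearMap.comp_apply, ← LinearMap.lTensor_comp, hri,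
      LinearMap.lTensor_smul, LinearMap.lTensor_id, LinearMap.smul_apply, LinearMap.smul_apply,
      LinearMap.id_apply, LinearMap.id_apply] at h''
    have h3 := congrArg (fun t => c * TensorProduct.rid A A' t) h''
    simp only [map_smul] at h3
    rw [Algebra.smul_def, Algebra.smul_def, map_natCast, ← mul_assoc, ← mul_assoc, hc, one_mul, one_mul] at h3
    exact h3
  · intro s hs
    obtain ⟨x, rfl⟩ := e.surjective s
    have hx : ∀ g, (act g).lTensor A' x = x := fun g => e.injective ((heq g x).symm.trans (hs g))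
    have hfx : S.lTensor A' x = Nat.card G • x := by
      rw [← LinearMap.coe_lTensorHom]
      simp only [S, map_sum, LinearMap.sum_apply, LinearMap.coe_lTensorHom, hx,
        Finset.sum_const, Finset.card_univ, Nat.card_eq_fintype_card]
    have key : i' (TensorProduct.rid A A' (r.lTensor A' x)) = (Nat.card G : B') * e x := by
      rw [← he, ← LinearMap.comp_apply, ← LinearMap.lTensor_comp, hir, hfx, map_nsmul, nsmul_eq_mul]
    refine ⟨c * TensorProduct.rid A A' (r.lTensor A' x), ?_⟩
    show i' (c * _) = _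
    rw [map_mul, key, ← mul_assoc, ← map_natCast i'.hom, ← map_mul, hc, map_one, one_mul]

end Groth.Agent.SymFlat14
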