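import Groth.Agent.Lib.SymFlat14.Quot
import Groth.Agent.Lib.SymFlat14.Invertible
import Groth.Agent.Lib.SymFlat14.ClosedPow
import Groth.Agent.Lib.QuotCmp26.Basic
import Groth.Agent.Lib.IsQuot25.Desc
import Groth.Prelude.Def_Flat

/-!
# Symmetric products: base change and closed subschemes
-/

set_option autoImplicit false
set_option backward.isDefEq.respectTransparency.types false
universe u

open CategoryTheory CategoryTheory.Limits AlgebraicGeometry TopologicalSpace

namespace Groth.Agent.SymFlat14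

theorem isUnit_natCast_of_hom {Y S : Scheme.{u}} (g : Y ⟶ S) (h : ∀ n : ℕ, 0 < n → IsUnit ((n : ℕ) : Γ(S, ⊤)))
    {n : ℕ} (hn : 0 < n) (U : Y.Opens) : IsUnit ((n : ℕ) : Γ(Y, U)) := by
  have := (h n hn).map (g.appLE ⊤ U le_top).hom
  rwa [map_natCast] at this

theorem isHomeomorph_of_isUnivHomeo {Y Z : Scheme.{u}} {m : Y ⟶ Z} (h : FlatMor.IsUnivHomeo m) :
    IsHomeomorph m :=
  MorphismProperty.universally_le (topologically fun f => IsHomeomorph f) m h

theorem isAffineHom_of_isUnivHomeo {Y Z : Scheme.{u}} {m : Y ⟶ Z} (h : FlatMor.IsUnivHomeo m) :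
    IsAffineHom m := by
  have h' := isHomeomorph_of_isUnivHomeo h
  exact isAffineHom_of_isInducing _ h'.isInducing h'.isClosedEmbedding.isClosed_range

theorem isClosedImmersion_of_isUnivHomeo {Y Z : Scheme.{u}} {m : Y ⟶ Z} (h : FlatMor.IsUnivHomeo m)
    [SurjectiveOnStalks m] : IsClosedImmersion m := by
  have h' := isHomeomorph_of_isUnivHomeo h
  exact { isClosedEmbedding := h'.isClosedEmbedding }

theorem isIso_residueFieldMap_of_comp {A B C : Scheme.{u}} (m : A ⟶ B) (j : B ⟶ C) (x : A)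
    (h : IsIso ((m ≫ j).residueFieldMap x)) : IsIso (m.residueFieldMap x) := by
  refine (ConcreteCategory.isIso_iff_bijective (m.residueFieldMap x)).2
    ⟨(m.residueFieldMap x).hom.injective, fun e => ?_⟩
  obtain ⟨t, rfl⟩ := (ConcreteCategory.bijective_of_isIso ((m ≫ j).residueFieldMap x)).2 e
  exact ⟨j.residueFieldMap (m x) t, (residueFieldMap_comp_apply m j x t).symm⟩

variable {X S S' Y Y' : Scheme.{u}} {f : X ⟶ S} {d : ℕ}

theorem symProd_baseChange (q : SymProd.fibPow f d ⟶ Y) (g : Y ⟶ S) (hq : SymProd.IsSymProd f d q g)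
    (gS : S' ⟶ S) (ρ' : Gd.{u} d →* Aut (pullback (WidePullback.base fun _ : Fin d => f) gS))
    (hρ' : ∀ σ, (ρ' σ).hom ≫ pullback.fst (WidePullback.base fun _ : Fin d => f) gS =
        pullback.fst (WidePullback.base fun _ : Fin d => f) gS ≫ SymProd.permHom f d σ.down ∧
      (ρ' σ).hom ≫ pullback.snd (WidePullback.base fun _ : Fin d => f) gS =
        pullback.snd (WidePullback.base fun _ : Fin d => f) gS)
    (r : pullback (WidePullback.base fun _ : Fin d => f) gS ⟶ Y') (hr : SGA1.IsQuot ρ' r)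
    (m : Y' ⟶ pullback g gS)
    (hm₁ : r ≫ m ≫ pullback.fst g gS = pullback.fst _ _ ≫ q)
    (hm₂ : r ≫ m ≫ pullback.snd g gS = pullback.snd _ _) :
    (∀ y : Y', IsIso (m.residueFieldMap y)) ∧
    ((∀ n : ℕ, 0 < n → IsUnit ((n : ℕ) : Γ(S', ⊤))) → IsIso m) ∧
    (Flat (pullback.snd f gS) → IsClosedImmersion m) := by
  have hu : FlatMor.IsUnivHomeo m :=
    QuotCmp26.baseChange_comparison (SymProd.permActU f d) _ q g hq.over hq.isQuot gS ρ' hρ' r hr m hm₁ hm₂
  have h : Cmp (FP.wide f d) ((FP.wide f d).pb gS) (SymProd.permActU f d) ρ' q g r gS (pullback.fst f gS)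
      (pullback.fst (WidePullback.base fun _ : Fin d => f) gS) m :=
    { hρ := FP.wide_isAct f d
      hρ' := FP.pb_isAct (FP.wide_isAct f d) gS ρ' hρ'
      hq := hq.isQuot
      over := hq.over
      hr := hr
      haf := pullback.condition
      hcb := pullback.condition
      hcπ := fun i => (pullback.lift_fst _ _ _).symm
      hm₁ := hm₁
      hm₂ := hm₂
      aff := isAffineHom_of_isUnivHomeo hu
      spans := fun _ _ hV hV' hVV => spans_pullback hV hV' hVV }
  refine ⟨h.isIso_residueFieldMap, fun hn => ?_, fun hfl => ?_⟩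
  · have sq : IsPullback (pullback.fst (WidePullback.base fun _ : Fin d => f) gS) (r ≫ m) q (pullback.fst g gS) := by
      refine IsPullback.of_bot ?_ (by simpa using hm₁.symm) (IsPullback.of_hasPullback g gS)
      simp only [Category.assoc]
      rw [hm₂, hq.over]
      exact IsPullback.of_hasPullback _ gS
    have hp := baseChange_invertible_target hq.isQuot (pullback.fst g gS)
      (fun U => isUnit_natCast_of_hom (pullback.snd g gS) hn Nat.card_pos U) _ _ sq ρ'
      (fun σ => (hρ' σ).1) (fun σ => by rw [← Category.assoc, hr.inv])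
    obtain ⟨e, he⟩ := IsQuot25.exists_iso hr hp
    rw [IsQuot25.hom_ext hr (show r ≫ m = r ≫ e.hom from he.symm)]
    infer_instance
  · haveI := hfl
    haveI := h.surjectiveOnStalks
    exact isClosedImmersion_of_isUnivHomeo hu

theorem symProd_closed {Z W : Scheme.{u}} (q : SymProd.fibPow f d ⟶ Y) (g : Y ⟶ S)
    (hq : SymProd.IsSymProd f d q g) (i : Z ⟶ X) [IsClosedImmersion i]
    (r : SymProd.fibPow (i ≫ f) d ⟶ W) (gW : W ⟶ S) (hr : SymProd.IsSymProd (i ≫ f) d r gW)
    (m : W ⟶ (SymProd.fibPowMap (i ≫ f) d f i rfl ≫ q).ker.subscheme)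
    (hm : r ≫ m ≫ (SymProd.fibPowMap (i ≫ f) d f i rfl ≫ q).ker.subschemeι =
      SymProd.fibPowMap (i ≫ f) d f i rfl ≫ q) :
    (∀ w : W, IsIso (m.residueFieldMap w)) ∧
    ((∀ n : ℕ, 0 < n → IsUnit ((n : ℕ) : Γ(S, ⊤))) → IsIso m) ∧
    (Flat (i ≫ f) → IsClosedImmersion m) := by
  let c := SymProd.fibPowMap (i ≫ f) d f i rfl
  let j := (c ≫ q).ker.subschemeι
  haveI : IsClosedImmersion c := isClosedImmersion_fibPowMap i f d
  have hcρ : ∀ σ, (SymProd.permActU (i ≫ f) d σ).hom ≫ c = c ≫ (SymProd.permActU f d σ).hom :=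
    c_comm (g := 𝟙 S) (a := i) (D := FP.wide f d) (D' := FP.wide (i ≫ f) d) (FP.wide_isAct _ d)
      (FP.wide_isAct _ d) ((SymProd.fibPowMap_base (i ≫ f) d f i rfl).trans (Category.comp_id _).symm)
      fun k => SymProd.fibPowMap_π (i ≫ f) d f i rfl k
  obtain ⟨hu, hdom⟩ := QuotCmp26.closedSubscheme_comparison _ q hq.isQuot c _ hcρ r hr.isQuot m hm
  haveI := isAffineHom_of_isUnivHomeo hu
  haveI : IsAffineHom (m ≫ j) := inferInstance
  let m' : W ⟶ pullback g (𝟙 S) := pullback.lift (m ≫ j) ((m ≫ j) ≫ g) (Category.comp_id _).symm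
  haveI : IsIso (pullback.fst g (𝟙 S)) := inferInstance
  have hm' : m' ≫ pullback.fst g (𝟙 S) = m ≫ j := pullback.lift_fst _ _ _
  haveI : IsAffineHom m' := by
    rw [show m' = (m ≫ j) ≫ inv (pullback.fst g (𝟙 S)) by rw [← hm', Category.assoc, IsIso.hom_inv_id, Category.comp_id]]
    infer_instance
  have h : Cmp (FP.wide f d) (FP.wide (i ≫ f) d) (SymProd.permActU f d) (SymProd.permActU (i ≫ f) d)
      q g r (𝟙 S) i c m' :=
    { hρ := FP.wide_isAct f d
      hρ' := FP.wide_isAct _ d
      hq := hq.isQuot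
      over := hq.over
      hr := hr.isQuot
      haf := (Category.comp_id _).symm
      hcb := (SymProd.fibPowMap_base (i ≫ f) d f i rfl).trans (Category.comp_id _).symm
      hcπ := fun k => SymProd.fibPowMap_π (i ≫ f) d f i rfl k
      hm₁ := by rw [hm']; exact hm
      hm₂ := by
        show r ≫ m' ≫ pullback.snd g (𝟙 S) = WidePullback.base _
        rw [pullback.lift_snd, Category.assoc, reassoc_of% hm, hq.over]
        exact SymProd.fibPowMap_base (i ≫ f) d f i rfl
      aff := inferInstance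
      spans := fun V V' hV hV' hVV => by
        let i' : Z ⟶ pullback f (𝟙 S) := pullback.lift i (i ≫ f) (Category.comp_id _).symm
        haveI : IsIso (pullback.fst f (𝟙 S)) := inferInstance
        haveI : IsClosedImmersion i' := by
          rw [show i' = i ≫ inv (pullback.fst f (𝟙 S)) by
            rw [← (pullback.lift_fst _ _ _ : i' ≫ _ = i), Category.assoc, IsIso.hom_inv_id, Category.comp_id]]
          infer_instance
        exact spans_closed i' (pullback.lift_fst _ _ _) (pullback.lift_snd _ _ _) hV hV' hVV }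
  refine ⟨fun w => ?_, fun hn => ?_, fun hfl => ?_⟩
  · apply isIso_residueFieldMap_of_comp m j
    rw [Scheme.Hom.residueFieldMap_congr hm'.symm]
    rw [Scheme.residueFieldMap_comp]
    have h1 : IsOpenImmersion (pullback.fst g (𝟙 S)) := inferInstance
    have h2 : ∀ z, IsIso ((pullback.fst g (𝟙 S)).residueFieldMap z) := fun z => inferInstance
    exact @IsIso.comp_isIso _ _ _ _ _ _ _ inferInstance
      (@IsIso.comp_isIso _ _ _ _ _ _ _ (h2 _) (h.isIso_residueFieldMap w))
  · haveI : IsClosedImmersion (m ≫ j) := isClosedImmersion_of_invertible hq.isQuot hr.isQuot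
      (fun U => isUnit_natCast_of_hom g hn Nat.card_pos U) c hcρ (m ≫ j) hm
    haveI : IsClosedImmersion m := IsClosedImmersion.of_comp_isClosedImmersion m j
    exact IsClosedImmersion.isIso_iff_ker_eq_bot.2 (Scheme.Hom.ker_eq_bot m)
  · haveI := hfl
    haveI := h.surjectiveOnStalks
    haveI : SurjectiveOnStalks (m' ≫ pullback.fst g (𝟙 S)) := inferInstance
    haveI : SurjectiveOnStalks (m ≫ j) := hm' ▸ this
    haveI : SurjectiveOnStalks m := SurjectiveOnStalks.of_comp m j
    exact isClosedImmersion_of_isUnivHomeo hu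

end Groth.Agent.SymFlat14
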