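import Groth.Agent.Lib.SymFlat14.FlatSym
import Groth.Agent.Lib.SymZeta13.BaseChange
import Groth.Agent.Lib.SymZeta13.Piece
import Groth.Agent.Lib.IsQuot25.Comp
import Groth.Agent.Lib.IsQuot25.FlatBC

/-!
# Products of symmetric products
-/

set_option autoImplicit false
set_option backward.isDefEq.respectTransparency.types false
universe u

open CategoryTheory CategoryTheory.Limits AlgebraicGeometry TopologicalSpace

namespace Groth.Agent.SymFlat14

open Groth.Agent.IsQuot25

/-- Products of quotients over a base, with flat factors. -/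
theorem isQuot_prod_flat {G H : Type u} [Group G] [Finite G] [Group H] [Finite H]
    {X Y XG YH B : Scheme.{u}} (fX : X ⟶ B) (fY : Y ⟶ B) (gX : XG ⟶ B) (gY : YH ⟶ B)
    [Flat fY] [Flat gX]
    (ρ : G →* Aut X) (σ : H →* Aut Y)
    (p : X ⟶ XG) (hp : p ≫ gX = fX) (q : Y ⟶ YH) (hq : q ≫ gY = fY)
    (hP : SGA1.IsQuot ρ p) (hQ : SGA1.IsQuot σ q)
    (θ : G × H →* Aut (pullback fX fY))
    (hθ1 : ∀ gh : G × H, (θ gh).hom ≫ pullback.fst fX fY = pullback.fst fX fY ≫ (ρ gh.1).hom)
    (hθ2 : ∀ gh : G × H, (θ gh).hom ≫ pullback.snd fX fY = pullback.snd fX fY ≫ (σ gh.2).hom)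
    (π : pullback fX fY ⟶ pullback gX gY) (hπ1 : π ≫ pullback.fst gX gY = pullback.fst fX fY ≫ p)
    (hπ2 : π ≫ pullback.snd gX gY = pullback.snd fX fY ≫ q) : SGA1.IsQuot θ π := by
  subst hp hq
  haveI : Flat (pullback.fst gX (q ≫ gY)) := inferInstance
  haveI : Flat (pullback.snd gX gY) := inferInstance
  -- the intermediate product
  let m : pullback (p ≫ gX) (q ≫ gY) ⟶ pullback gX (q ≫ gY) :=
    pullback.lift (pullback.fst _ _ ≫ p) (pullback.snd _ _) (by rw [Category.assoc, pullback.condition])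
  let n : pullback gX (q ≫ gY) ⟶ pullback gX gY :=
    pullback.lift (pullback.fst _ _) (pullback.snd _ _ ≫ q) (by rw [Category.assoc, pullback.condition])
  have hm : IsPullback (pullback.fst (p ≫ gX) (q ≫ gY)) m p (pullback.fst gX (q ≫ gY)) :=
    IsPullback.of_bot (h₁₁ := pullback.fst (p ≫ gX) (q ≫ gY)) (v₁₁ := m) (v₁₂ := p)
      (h₂₁ := pullback.fst gX (q ≫ gY)) (v₂₁ := pullback.snd gX (q ≫ gY)) (v₂₂ := gX) (h₃₁ := q ≫ gY)
      (by rw [show m ≫ pullback.snd gX (q ≫ gY) = pullback.snd _ _ from pullback.lift_snd _ _ _]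
          exact IsPullback.of_hasPullback _ _)
      (pullback.lift_fst _ _ _).symm (IsPullback.of_hasPullback _ _)
  have hn : IsPullback (pullback.snd gX (q ≫ gY)) n q (pullback.snd gX gY) :=
    IsPullback.of_bot (h₁₁ := pullback.snd gX (q ≫ gY)) (v₁₁ := n) (v₁₂ := q)
      (h₂₁ := pullback.snd gX gY) (v₂₁ := pullback.fst gX gY) (v₂₂ := gY) (h₃₁ := gX)
      (by rw [show n ≫ pullback.fst gX gY = pullback.fst _ _ from pullback.lift_fst _ _ _]
          exact (IsPullback.of_hasPullback _ _).flip)
      (pullback.lift_snd _ _ _).symm (IsPullback.of_hasPullback _ _).flip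
  have hπ : π = m ≫ n := by
    apply pullback.hom_ext
    · rw [hπ1, Category.assoc, pullback.lift_fst, pullback.lift_fst]
    · rw [hπ2, Category.assoc, pullback.lift_snd, pullback.lift_snd_assoc]
  let τH : H → (pullback gX (q ≫ gY) ⟶ pullback gX (q ≫ gY)) := fun h =>
    pullback.map gX (q ≫ gY) gX (q ≫ gY) (𝟙 _) (σ h).hom (𝟙 _)
      (by rw [Category.comp_id, Category.id_comp])
      (by rw [Category.comp_id, reassoc_of% (hQ.inv h)])
  have hτ1 : ∀ h, τH h ≫ pullback.fst _ _ = pullback.fst _ _ := fun h => by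
    simp [τH, pullback.map, pullback.lift_fst]
  have hτ2 : ∀ h, τH h ≫ pullback.snd _ _ = pullback.snd _ _ ≫ (σ h).hom := fun h => by
    simp [τH, pullback.map, pullback.lift_snd]
  let τ : H →* Aut (pullback gX (q ≫ gY)) :=
    { toFun := fun h =>
        { hom := τH h
          inv := τH h⁻¹
          hom_inv_id := by
            apply pullback.hom_ext
            · simp [hτ1]
            · simp only [Category.assoc, hτ2, reassoc_of% (hτ2 h), Category.id_comp]
              rw [← map_mul_hom, inv_mul_cancel, map_one_hom, Category.comp_id]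
          inv_hom_id := by
            apply pullback.hom_ext
            · simp [hτ1]
            · simp only [Category.assoc, hτ2, reassoc_of% (hτ2 h⁻¹), Category.id_comp]
              rw [← map_mul_hom, mul_inv_cancel, map_one_hom, Category.comp_id] }
      map_one' := by
        ext1
        show τH 1 = 𝟙 _
        apply pullback.hom_ext
        · simp [hτ1]
        · rw [hτ2, map_one_hom, Category.comp_id, Category.id_comp]
      map_mul' := fun h h' => by
        ext1
        show τH (h * h') = τH h' ≫ τH h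
        apply pullback.hom_ext
        · simp [hτ1]
        · rw [Category.assoc, hτ2, hτ2, reassoc_of% (hτ2 h'), map_mul_hom] }
  have q₁ : SGA1.IsQuot (θ.comp (MonoidHom.inl G H)) m :=
    baseChange_flat hP _ _ m hm _ (fun g => hθ1 (g, 1)) fun g => by
      show (θ (g, 1)).hom ≫ m = m
      apply pullback.hom_ext
      · rw [Category.assoc, pullback.lift_fst, reassoc_of% (hθ1 (g, 1)), hP.inv]
      · rw [Category.assoc, pullback.lift_snd, hθ2, map_one_hom, Category.comp_id]
  have q₂ : SGA1.IsQuot τ n :=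
    baseChange_flat hQ _ _ n hn τ hτ2 fun h => by
      show τH h ≫ n = n
      apply pullback.hom_ext
      · rw [Category.assoc, pullback.lift_fst, hτ1]
      · rw [Category.assoc, pullback.lift_snd, reassoc_of% (hτ2 h), hQ.inv]
  rw [hπ]
  refine isQuot_comp q₁ q₂ (fun gh => ?_) (fun g => ⟨(g, 1), rfl⟩) (fun h => ⟨(1, h), ?_⟩)
  · apply pullback.hom_ext
    · simp only [m, n, Category.assoc, pullback.lift_fst]
      rw [reassoc_of% (hθ1 gh), hP.inv]
    · simp only [m, n, Category.assoc, pullback.lift_snd, pullback.lift_snd_assoc]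
      rw [reassoc_of% (hθ2 gh), hQ.inv]
  · show (θ (1, h)).hom ≫ m = m ≫ τH h
    apply pullback.hom_ext
    · rw [Category.assoc, Category.assoc, pullback.lift_fst, hτ1, pullback.lift_fst,
        reassoc_of% (hθ1 (1, h)), map_one_hom, Category.id_comp]
    · rw [Category.assoc, Category.assoc, pullback.lift_snd, hθ2, hτ2, pullback.lift_snd_assoc]

theorem flat_fibPow {X S : Scheme.{u}} (f : X ⟶ S) [Flat f] :
    ∀ d : ℕ, Flat (WidePullback.base fun _ : Fin d => f)
  | 0 => by
    let l : S ⟶ SymProd.fibPow f 0 := WidePullback.lift (𝟙 S) (fun i => i.elim0) fun i => i.elim0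
    have hl : l ≫ WidePullback.base (fun _ : Fin 0 => f) = 𝟙 S := WidePullback.lift_base _ _ _ _
    have : IsIso (WidePullback.base fun _ : Fin 0 => f) := by
      refine ⟨l, WidePullback.hom_ext _ _ _ (fun i => i.elim0) ?_, hl⟩
      rw [Category.assoc, hl, Category.comp_id, Category.id_comp]
    infer_instance
  | d + 1 => by
    have := flat_fibPow f d
    let D := FP.wide f d
    let D' := FP.wide f (d + 1)
    let v : SymProd.fibPow f (d + 1) ⟶ SymProd.fibPow f d := D.lift D'.base (fun i => D'.π i.succ) fun i => D'.w _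
    let e : SymProd.fibPow f (d + 1) ⟶ pullback f D.base :=
      pullback.lift (D'.π 0) v (by rw [D'.w, D.lift_base])
    let l : pullback f D.base ⟶ SymProd.fibPow f (d + 1) :=
      D'.lift (pullback.fst f D.base ≫ f) (Fin.cases (pullback.fst f D.base) fun i => pullback.snd f D.base ≫ D.π i)
        fun i => by
          induction i using Fin.cases with
          | zero => rfl
          | succ i => rw [Fin.cases_succ, Category.assoc, D.w, pullback.condition]
    have hl0 : l ≫ D'.π 0 = pullback.fst f D.base := D'.lift_π _ _ _ 0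
    have hls : ∀ i : Fin d, l ≫ D'.π i.succ = pullback.snd f D.base ≫ D.π i := fun i => D'.lift_π _ _ _ i.succ
    have hlb : l ≫ D'.base = pullback.fst f D.base ≫ f := D'.lift_base _ _ _
    have he0 : e ≫ pullback.fst f D.base = D'.π 0 := pullback.lift_fst _ _ _
    have hes : e ≫ pullback.snd f D.base = v := pullback.lift_snd _ _ _
    have heb : e ≫ pullback.fst f D.base ≫ f = D'.base := by rw [← Category.assoc, he0, D'.w]
    have : IsIso e := by
      refine ⟨l, D'.hom_ext (fun i => ?_) ?_, ?_⟩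
      · rw [Category.assoc, Category.id_comp]
        induction i using Fin.cases with
        | zero => rw [hl0, he0]
        | succ i => rw [hls, ← Category.assoc, hes, D.lift_π]
      · rw [Category.assoc, hlb, heb, Category.id_comp]
      · apply pullback.hom_ext
        · rw [Category.assoc, he0, hl0, Category.id_comp]
        · rw [Category.assoc, hes, Category.id_comp]
          refine D.hom_ext (fun i => ?_) ?_
          · rw [Category.assoc, D.lift_π, hls]
          · rw [Category.assoc, D.lift_base, hlb, pullback.condition]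
    show Flat D'.base
    rw [← heb]
    have : Flat D.base := ‹_›
    infer_instance

theorem symProd_prod {X Z S P Q : Scheme.{u}} (f : X ⟶ S) (g : Z ⟶ S) (d e : ℕ)
    (h : (Flat f ∧ Flat g) ∨ ∀ n : ℕ, 0 < n → IsUnit ((n : ℕ) : Γ(S, ⊤)))
    (qX : SymProd.fibPow f d ⟶ P) (pP : P ⟶ S) (hqX : SymProd.IsSymProd f d qX pP)
    (qZ : SymProd.fibPow g e ⟶ Q) (pQ : Q ⟶ S) (hqZ : SymProd.IsSymProd g e qZ pQ)
    (ρ : ULift.{u} (Equiv.Perm (Fin d) × Equiv.Perm (Fin e)) →*
      Aut (pullback (WidePullback.base fun _ : Fin d => f) (WidePullback.base fun _ : Fin e => g)))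
    (hρ : ∀ σ, (ρ σ).hom ≫ pullback.fst (WidePullback.base fun _ : Fin d => f) (WidePullback.base fun _ : Fin e => g) =
        pullback.fst (WidePullback.base fun _ : Fin d => f) (WidePullback.base fun _ : Fin e => g) ≫
          SymProd.permHom f d σ.down.1 ∧
      (ρ σ).hom ≫ pullback.snd (WidePullback.base fun _ : Fin d => f) (WidePullback.base fun _ : Fin e => g) =
        pullback.snd (WidePullback.base fun _ : Fin d => f) (WidePullback.base fun _ : Fin e => g) ≫
          SymProd.permHom g e σ.down.2)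
    (π : pullback (WidePullback.base fun _ : Fin d => f) (WidePullback.base fun _ : Fin e => g) ⟶ pullback pP pQ)
    (hπ1 : π ≫ pullback.fst pP pQ = pullback.fst _ _ ≫ qX)
    (hπ2 : π ≫ pullback.snd pP pQ = pullback.snd _ _ ≫ qZ) : SGA1.IsQuot ρ π := by
  let φ : Gd.{u} d × Gd.{u} e →* ULift.{u} (Equiv.Perm (Fin d) × Equiv.Perm (Fin e)) :=
    { toFun := fun σ => ⟨(σ.1.down, σ.2.down)⟩, map_one' := rfl, map_mul' := fun _ _ => rfl }
  let ψ : ULift.{u} (Equiv.Perm (Fin d) × Equiv.Perm (Fin e)) →* Gd.{u} d × Gd.{u} e :=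
    { toFun := fun σ => (⟨σ.down.1⟩, ⟨σ.down.2⟩), map_one' := rfl, map_mul' := fun _ _ => rfl }
  have key : SGA1.IsQuot (ρ.comp φ) π := by
    rcases h with ⟨hf, hg⟩ | hn
    · haveI := flat_fibPow g e
      haveI : Flat pP := flat_symProd (FP.wide_isAct f d) hqX.isQuot pP hqX.over
      exact isQuot_prod_flat _ _ pP pQ _ _ qX hqX.over qZ hqZ.over hqX.isQuot hqZ.isQuot _
        (fun gh => (hρ (φ gh)).1) (fun gh => (hρ (φ gh)).2) π hπ1 hπ2
    · have hu : ∀ {T : Scheme.{u}} (t : T ⟶ S) {n : ℕ}, 0 < n → ∀ U : T.Opens, IsUnit ((n : ℕ) : Γ(T, U)) :=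
        fun {T} t {n} hn0 U => by
          have := (hn n hn0).map (t.appLE ⊤ U le_top).hom
          rwa [map_natCast] at this
      exact SymZeta13.isQuot_prod_invertible _ _ pP pQ (hu pP Nat.card_pos) (hu pQ Nat.card_pos) _ _ qX hqX.over
        qZ hqZ.over hqX.isQuot hqZ.isQuot _ (fun gh => (hρ (φ gh)).1) (fun gh => (hρ (φ gh)).2) π hπ1 hπ2
  have := SymZeta13.isQuot_comp_surjective key ψ fun σ => ⟨φ σ, rfl⟩
  have e : (ρ.comp φ).comp ψ = ρ := MonoidHom.ext fun σ => rfl
  rwa [e] at this

end Groth.Agent.SymFlat14
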