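import Groth.Agent.Lib.SymFlat14.Geom
import Mathlib.AlgebraicGeometry.Morphisms.Integral

/-!
# Comparison of quotients of fibre powers
-/

set_option autoImplicit false
set_option backward.isDefEq.respectTransparency.types false
universe u

open CategoryTheory CategoryTheory.Limits AlgebraicGeometry TopologicalSpace

namespace Groth.Agent.SymFlat14

variable {X S X' S' : Scheme.{u}} {f : X ⟶ S} {f' : X' ⟶ S'} {d : ℕ} {P P' Y Y' : Scheme.{u}}
  {D : FP f d P} {D' : FP f' d P'} {ρ : Gd.{u} d →* Aut P} {ρ' : Gd.{u} d →* Aut P'}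

/-- The permutation action on a base change of a fibre power. -/
noncomputable def pbAct (hρ : D.IsAct ρ) {T : Scheme.{u}} (t : T ⟶ S) :
    Gd.{u} d →* Aut (pullback D.base t) where
  toFun σ :=
    { hom := pullback.lift (pullback.fst D.base t ≫ (ρ σ).hom) (pullback.snd D.base t)
        (by rw [Category.assoc, hρ.base, pullback.condition])
      inv := pullback.lift (pullback.fst D.base t ≫ (ρ σ⁻¹).hom) (pullback.snd D.base t)
        (by rw [Category.assoc, hρ.base, pullback.condition])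
      hom_inv_id := by
        apply pullback.hom_ext
        · rw [Category.assoc, pullback.lift_fst, pullback.lift_fst_assoc, Category.assoc,
            ← IsQuot25.map_mul_hom, inv_mul_cancel, IsQuot25.map_one_hom, Category.comp_id, Category.id_comp]
        · rw [Category.assoc, pullback.lift_snd, pullback.lift_snd, Category.id_comp]
      inv_hom_id := by
        apply pullback.hom_ext
        · rw [Category.assoc, pullback.lift_fst, pullback.lift_fst_assoc, Category.assoc,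
            ← IsQuot25.map_mul_hom, mul_inv_cancel, IsQuot25.map_one_hom, Category.comp_id, Category.id_comp]
        · rw [Category.assoc, pullback.lift_snd, pullback.lift_snd, Category.id_comp] }
  map_one' := by
    ext1
    show pullback.lift (pullback.fst D.base t ≫ (ρ 1).hom) (pullback.snd D.base t) _ = 𝟙 _
    apply pullback.hom_ext
    · rw [pullback.lift_fst, IsQuot25.map_one_hom, Category.comp_id, Category.id_comp]
    · rw [pullback.lift_snd, Category.id_comp]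
  map_mul' σ τ := by
    ext1
    show pullback.lift (pullback.fst D.base t ≫ (ρ (σ * τ)).hom) (pullback.snd D.base t) _ =
      pullback.lift (pullback.fst D.base t ≫ (ρ τ).hom) (pullback.snd D.base t) _ ≫
        pullback.lift (pullback.fst D.base t ≫ (ρ σ).hom) (pullback.snd D.base t) _
    apply pullback.hom_ext
    · rw [pullback.lift_fst, Category.assoc, pullback.lift_fst, pullback.lift_fst_assoc, Category.assoc,
        ← IsQuot25.map_mul_hom]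
    · rw [pullback.lift_snd, Category.assoc, pullback.lift_snd, pullback.lift_snd]

theorem pbAct_fst (hρ : D.IsAct ρ) {T : Scheme.{u}} (t : T ⟶ S) (σ : Gd.{u} d) :
    (pbAct hρ t σ).hom ≫ pullback.fst D.base t = pullback.fst D.base t ≫ (ρ σ).hom :=
  pullback.lift_fst _ _ _

theorem pbAct_snd (hρ : D.IsAct ρ) {T : Scheme.{u}} (t : T ⟶ S) (σ : Gd.{u} d) :
    (pbAct hρ t σ).hom ≫ pullback.snd D.base t = pullback.snd D.base t :=
  pullback.lift_snd _ _ _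

theorem residueFieldMap_evaluation {A B : Scheme.{u}} (ψ : A ⟶ B) {U : B.Opens} {V : A.Opens}
    (e : V ≤ ψ ⁻¹ᵁ U) (x : A) (hx : x ∈ V) (t : Γ(B, U)) :
    ψ.residueFieldMap x (B.evaluation U (ψ x) (e hx) t) = A.evaluation V x hx (ψ.appLE U V e t) := by
  rw [Scheme.evaluation_naturality_apply]
  show (A.residue x) (A.presheaf.germ (ψ ⁻¹ᵁ U) x _ (ψ.app U t)) = (A.residue x) (A.presheaf.germ V x hx _)
  rw [Scheme.Hom.appLE, CommRingCat.comp_apply, TopCat.Presheaf.germ_res_apply]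

theorem residueFieldMap_comp_apply {A B C : Scheme.{u}} (φ : A ⟶ B) (χ : B ⟶ C) (x : A)
    (t : C.residueField (χ (φ x))) :
    (φ ≫ χ).residueFieldMap x t = φ.residueFieldMap x (χ.residueFieldMap (φ x) t) := by
  rw [Scheme.residueFieldMap_comp]
  rfl

theorem appLE_app_app {A B C T : Scheme.{u}} (φ : A ⟶ B) (χ : B ⟶ C) (ψ : C ⟶ T) {U : T.Opens}
    {Z : C.Opens} (e : Z ≤ ψ ⁻¹ᵁ U) (t : Γ(T, U)) :
    φ.app (χ ⁻¹ᵁ Z) (χ.app Z (ψ.appLE U Z e t)) =
      ((φ ≫ χ) ≫ ψ).appLE U (φ ⁻¹ᵁ (χ ⁻¹ᵁ Z)) (fun _ hz => e hz) t := by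
  rw [φ.app_eq_appLE, χ.app_eq_appLE, ← CommRingCat.comp_apply, ← CommRingCat.comp_apply,
    Scheme.Hom.appLE_comp_appLE, Scheme.Hom.appLE_comp_appLE]

theorem isAffineOpen_pullback_box {A B C : Scheme.{u}} (i : A ⟶ C) (j : B ⟶ C) {U : A.Opens}
    (hU : IsAffineOpen U) {W : C.Opens} (hW : IsAffineOpen W) {V : B.Opens} (hV : IsAffineOpen V)
    (hUW : U ≤ i ⁻¹ᵁ W) (hVW : V ≤ j ⁻¹ᵁ W) :
    IsAffineOpen (pullback.fst i j ⁻¹ᵁ U ⊓ pullback.snd i j ⁻¹ᵁ V) :=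
  (spans_pullback hW hV hVW U hU hUW).1

/-- A ring map sending scalars and images of invariants into a subring sends the span into it. -/
theorem map_mem_of_mem_imSpan {c : P' ⟶ P} {q : P ⟶ Y} (hq : SGA1.IsQuot ρ q) {Uy : Y.Opens}
    {W' : P'.Opens} (hle : W' ≤ c ⁻¹ᵁ (q ⁻¹ᵁ Uy)) {V' : S'.Opens} (hW'V : W' ≤ D'.base ⁻¹ᵁ V')
    {Q : Type u} [CommRing Q] (ev : Γ(P', W') →+* Q) (L : Subring Q)
    (h1 : ∀ r : Γ(S', V'), ev (D'.base.appLE V' W' hW'V r) ∈ L)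
    (h2 : ∀ u : Γ(Y, Uy), ev ((c ≫ q).appLE Uy W' hle u) ∈ L)
    {s : Γ(P', W')} (hs : s ∈ imSpan hq.inv Uy D' c hle hW'V) : ev s ∈ L := by
  let _ := algW D' hW'V
  induction hs using Submodule.span_induction with
  | mem x hx =>
    obtain ⟨z, hz, rfl⟩ := hx
    obtain ⟨u, rfl⟩ := (IsQuot25.mem_range_iff hq Uy z).2 hz
    have : (q.app Uy ≫ c.appLE (q ⁻¹ᵁ Uy) W' hle) u = (c ≫ q).appLE Uy W' hle u := by
      rw [q.app_eq_appLE, Scheme.Hom.appLE_comp_appLE]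
    show ev ((q.app Uy ≫ c.appLE (q ⁻¹ᵁ Uy) W' hle) u) ∈ L
    rw [this]
    exact h2 u
  | zero => rw [map_zero]; exact L.zero_mem
  | add x y _ _ hx hy => rw [map_add]; exact L.add_mem hx hy
  | smul r x _ hx => rw [Algebra.smul_def, map_mul]; exact L.mul_mem (h1 r) hx

/-- The data of a comparison of quotients of fibre powers. -/
structure Cmp (D : FP f d P) (D' : FP f' d P') (ρ : Gd.{u} d →* Aut P) (ρ' : Gd.{u} d →* Aut P')
    (q : P ⟶ Y) (gY : Y ⟶ S) (r : P' ⟶ Y') (g : S' ⟶ S) (a : X' ⟶ X) (c : P' ⟶ P)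
    (m : Y' ⟶ pullback gY g) : Prop where
  hρ : D.IsAct ρ
  hρ' : D'.IsAct ρ'
  hq : SGA1.IsQuot ρ q
  over : q ≫ gY = D.base
  hr : SGA1.IsQuot ρ' r
  haf : a ≫ f = f' ≫ g
  hcb : c ≫ D.base = D'.base ≫ g
  hcπ : ∀ i, c ≫ D.π i = D'.π i ≫ a
  hm₁ : r ≫ m ≫ pullback.fst gY g = c ≫ q
  hm₂ : r ≫ m ≫ pullback.snd gY g = D'.base
  aff : IsAffineHom m
  spans : ∀ (V : S.Opens) (V' : S'.Opens), IsAffineOpen V → IsAffineOpen V' → V' ≤ g ⁻¹ᵁ V → Spans f f' a V V'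

variable {q : P ⟶ Y} {gY : Y ⟶ S} {r : P' ⟶ Y'} {g : S' ⟶ S} {a : X' ⟶ X} {c : P' ⟶ P}
  {m : Y' ⟶ pullback gY g}

/-- Charts of a comparison. -/
theorem Cmp.exists_chart (h : Cmp D D' ρ ρ' q gY r g a c m) (y : Y') :
    ∃ (V : S.Opens) (V' : S'.Opens) (Uy : Y.Opens),
      IsAffineOpen V ∧ IsAffineOpen V' ∧ IsAffineOpen Uy ∧ V' ≤ g ⁻¹ᵁ V ∧ Uy ≤ gY ⁻¹ᵁ V ∧
      y ∈ m ⁻¹ᵁ (pullback.fst gY g ⁻¹ᵁ Uy ⊓ pullback.snd gY g ⁻¹ᵁ V') := by
  obtain ⟨V, hV, hyV, -⟩ := exists_isAffineOpen_mem_and_subset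
    (show gY (pullback.fst gY g (m y)) ∈ (⊤ : S.Opens) from trivial)
  obtain ⟨Uy, hUy, hyU, hUV⟩ := exists_isAffineOpen_mem_and_subset
    (show pullback.fst gY g (m y) ∈ gY ⁻¹ᵁ V from hyV)
  obtain ⟨V', hV', hyV', hVV⟩ := exists_isAffineOpen_mem_and_subset
    (show pullback.snd gY g (m y) ∈ g ⁻¹ᵁ V from by
      show g (pullback.snd gY g (m y)) ∈ V
      rw [← Scheme.Hom.comp_apply, ← pullback.condition]
      exact hyV)
  exact ⟨V, V', Uy, hV, hV', hUy, hVV, hUV, hyU, hyV'⟩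

theorem Cmp.preimage_chart (h : Cmp D D' ρ ρ' q gY r g a c m) (Uy : Y.Opens) (V' : S'.Opens) :
    r ⁻¹ᵁ (m ⁻¹ᵁ (pullback.fst gY g ⁻¹ᵁ Uy ⊓ pullback.snd gY g ⁻¹ᵁ V')) =
      c ⁻¹ᵁ (q ⁻¹ᵁ Uy) ⊓ D'.base ⁻¹ᵁ V' := by
  rw [← Scheme.Hom.comp_preimage c q, ← h.hm₁, ← h.hm₂]
  rfl

theorem Cmp.exists_section (h : Cmp D D' ρ ρ' q gY r g a c m) [Flat f'] {V : S.Opens} {V' : S'.Opens}
    {Uy : Y.Opens} (hV : IsAffineOpen V) (hV' : IsAffineOpen V') (hUy : IsAffineOpen Uy)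
    (hVV : V' ≤ g ⁻¹ᵁ V) (hUV : Uy ≤ gY ⁻¹ᵁ V) {y : Y'}
    (hy : y ∈ m ⁻¹ᵁ (pullback.fst gY g ⁻¹ᵁ Uy ⊓ pullback.snd gY g ⁻¹ᵁ V'))
    (w : Γ(Y', m ⁻¹ᵁ (pullback.fst gY g ⁻¹ᵁ Uy ⊓ pullback.snd gY g ⁻¹ᵁ V'))) :
    ∃ σ z : Γ(pullback gY g, pullback.fst gY g ⁻¹ᵁ Uy ⊓ pullback.snd gY g ⁻¹ᵁ V'),
      m y ∈ (pullback gY g).basicOpen σ ∧ m.app _ σ * w = m.app _ z := by
  let Z0 := pullback.fst gY g ⁻¹ᵁ Uy ⊓ pullback.snd gY g ⁻¹ᵁ V'
  haveI := h.aff
  haveI := h.hq.affine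
  haveI := h.hr.affine
  have hZ : IsAffineOpen Z0 := isAffineOpen_pullback_box gY g hUy hV hV' hUV hVV
  obtain ⟨x', rfl⟩ := IsQuot25.surjective h.hr y
  have hWeq := h.preimage_chart Uy V'
  have hWV : q ⁻¹ᵁ Uy ≤ D.base ⁻¹ᵁ V := fun z hz => by
    show D.base z ∈ V
    rw [← h.over]
    exact hUV hz
  obtain ⟨s, hs, z, hz, hxs, e⟩ := exists_local_surj h.hρ h.hρ' h.hq.inv h.hr.inv h.hcb h.hcπ
    (hUy.preimage q) ((hZ.preimage m).preimage r) hV hV' hWV hVV hWeq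
    (h.spans V V' hV hV' hVV) h.haf hy (r.app _ w)
    (fun σ => congr($(IsQuot25.actHom_app h.hr.inv _ σ) w))
  have key : ∀ s ∈ imSpan h.hq.inv Uy D' c (le_preimage hWeq).1 (le_preimage hWeq).2,
      s ∈ ((r.app (m ⁻¹ᵁ Z0)).hom.comp (m.app Z0).hom).range := by
    intro s hs
    refine map_mem_of_mem_imSpan h.hq _ _ (RingHom.id _) _ (fun t => ?_) (fun u => ?_) hs
    · refine ⟨(pullback.snd gY g).appLE V' Z0 inf_le_right t, (appLE_app_app r m _ _ t).trans ?_⟩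
      rw [IsQuot25.appLE_eq ((Category.assoc _ _ _).trans h.hm₂)]
      rfl
    · refine ⟨(pullback.fst gY g).appLE Uy Z0 inf_le_left u, (appLE_app_app r m _ _ u).trans ?_⟩
      rw [IsQuot25.appLE_eq ((Category.assoc _ _ _).trans h.hm₁)]
      rfl
  obtain ⟨σ, rfl⟩ := key s hs
  obtain ⟨ζ, rfl⟩ := key z hz
  refine ⟨σ, ζ, ?_, h.hr.injective _ ?_⟩
  · change x' ∈ P'.basicOpen (r.app _ (m.app Z0 σ)) at hxs
    rw [← Scheme.preimage_basicOpen, ← Scheme.preimage_basicOpen] at hxs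
    exact hxs
  · rw [map_mul]
    exact e

/-- The comparison is surjective on stalks if the target family is flat. -/
theorem Cmp.surjectiveOnStalks (h : Cmp D D' ρ ρ' q gY r g a c m) [Flat f'] : SurjectiveOnStalks m := by
  refine ⟨fun y z => ?_⟩
  obtain ⟨V, V', Uy, hV, hV', hUy, hVV, hUV, hy⟩ := h.exists_chart y
  haveI := h.aff
  let Z0 := pullback.fst gY g ⁻¹ᵁ Uy ⊓ pullback.snd gY g ⁻¹ᵁ V'
  have hU' : IsAffineOpen (m ⁻¹ᵁ Z0) := (isAffineOpen_pullback_box gY g hUy hV hV' hUV hVV).preimage m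
  let gm : Γ(Y', m ⁻¹ᵁ Z0) →+* Y'.presheaf.stalk y := (Y'.presheaf.germ _ y hy).hom
  have hgm : ∀ w, ∃ e, (m.stalkMap y) e = gm w := by
    intro w
    obtain ⟨σ, ζ, hσ, e⟩ := h.exists_section hV hV' hUy hVV hUV hy w
    obtain ⟨u, hu⟩ := (Scheme.mem_basicOpen _ _ (m y) hy).1 hσ
    refine ⟨(↑u⁻¹ : _) * (pullback gY g).presheaf.germ Z0 (m y) hy ζ, ?_⟩
    have h1 : ∀ t, (m.stalkMap y) ((pullback gY g).presheaf.germ Z0 (m y) hy t) = gm (m.app Z0 t) :=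
      fun t => congr($(m.germ_stalkMap Z0 y hy) t)
    refine ((u.map (m.stalkMap y).hom.toMonoidHom).isUnit).mul_left_cancel ?_
    show m.stalkMap y ↑u * m.stalkMap y _ = m.stalkMap y ↑u * gm w
    rw [← map_mul, ← mul_assoc, Units.mul_inv, one_mul, h1, hu, h1, ← map_mul, e]
  let _ := TopCat.Presheaf.algebra_section_stalk Y'.presheaf (⟨y, hy⟩ : m ⁻¹ᵁ Z0)
  haveI := hU'.isLocalization_stalk ⟨y, hy⟩
  obtain ⟨⟨w, t⟩, hwt⟩ := IsLocalization.surj (hU'.primeIdealOf ⟨y, hy⟩).asIdeal.primeCompl z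
  obtain ⟨e, he⟩ := hgm w
  obtain ⟨e', he'⟩ := hgm t
  have ht : IsUnit (gm t) := IsLocalization.map_units (Y'.presheaf.stalk y) t
  obtain ⟨u, hu⟩ : IsUnit e' := isUnit_of_map_unit (m.stalkMap y).hom e' (he' ▸ ht)
  refine ⟨e * ↑u⁻¹, ht.mul_left_cancel ?_⟩
  calc gm t * m.stalkMap y (e * ↑u⁻¹) = m.stalkMap y (↑u * (e * ↑u⁻¹)) := by
        rw [← he', ← hu]; exact (map_mul (m.stalkMap y).hom _ _).symm
    _ = gm w := by rw [mul_left_comm, Units.mul_inv, mul_one, he]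
    _ = gm t * z := hwt.symm.trans (mul_comm _ _)

set_option maxHeartbeats 1600000 in
/-- The comparison preserves residue fields. -/
theorem Cmp.isIso_residueFieldMap (h : Cmp D D' ρ ρ' q gY r g a c m) (y : Y') :
    IsIso (m.residueFieldMap y) := by
  obtain ⟨V, V', Uy, hV, hV', hUy, hVV, hUV, hy⟩ := h.exists_chart y
  haveI := h.aff
  haveI := h.hq.affine
  haveI := h.hr.affine
  let Z0 := pullback.fst gY g ⁻¹ᵁ Uy ⊓ pullback.snd gY g ⁻¹ᵁ V'
  have hZ : IsAffineOpen Z0 := isAffineOpen_pullback_box gY g hUy hV hV' hUV hVV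
  have hU' : IsAffineOpen (m ⁻¹ᵁ Z0) := hZ.preimage m
  suffices hev : ∀ w, Y'.evaluation _ y hy w ∈ (m.residueFieldMap y).hom.range by
    refine (ConcreteCategory.isIso_iff_bijective (m.residueFieldMap y)).2
      ⟨(m.residueFieldMap y).hom.injective, fun e => ?_⟩
    obtain ⟨z, rfl⟩ := Scheme.residue_surjective Y' y e
    let _ := TopCat.Presheaf.algebra_section_stalk Y'.presheaf (⟨y, hy⟩ : m ⁻¹ᵁ Z0)
    haveI := hU'.isLocalization_stalk ⟨y, hy⟩
    obtain ⟨⟨w, t⟩, hwt⟩ := IsLocalization.surj (hU'.primeIdealOf ⟨y, hy⟩).asIdeal.primeCompl z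
    obtain ⟨e₁, he₁⟩ := hev w
    obtain ⟨e₂, he₂⟩ := hev t
    have ht : Y'.evaluation _ y hy t ≠ 0 := ((IsLocalization.map_units (Y'.presheaf.stalk y) t).map (Y'.residue y).hom).ne_zero
    refine ⟨e₁ / e₂, ?_⟩
    show (m.residueFieldMap y).hom (e₁ / e₂) = _
    rw [map_div₀, he₁, he₂, div_eq_iff ht]
    have := congrArg (Y'.residue y).hom hwt
    rw [map_mul] at this
    exact this.symm
  intro w
  obtain ⟨x', rfl⟩ := IsQuot25.surjective h.hr y
  -- the fibre over the point of the base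
  let s' : S' := D'.base x'
  let K : Scheme.{u} := Spec (S'.residueField s')
  let ι : K ⟶ S' := S'.fromSpecResidueField s'
  obtain ⟨x, hx, -⟩ := Scheme.Pullback.exists_preimage_pullback (f := D'.base) (g := ι) x'
    (IsLocalRing.closedPoint (S'.residueField s')) (S'.fromSpecResidueField_apply s' _).symm
  have hWeq := h.preimage_chart Uy V'
  have hWV : q ⁻¹ᵁ Uy ≤ D.base ⁻¹ᵁ V := fun z hz => by
    show D.base z ∈ V
    rw [← h.over]
    exact hUV hz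
  obtain ⟨hWc, hW'V⟩ := le_preimage hWeq
  have hs' : s' ∈ V' := hW'V hy
  have hι : (⊤ : K.Opens) ≤ ι ⁻¹ᵁ V' := fun z _ => by
    show S'.fromSpecResidueField s' z ∈ V'
    rw [Scheme.fromSpecResidueField_apply]
    exact hs'
  let p'' : pullback D'.base ι ⟶ Y' := pullback.fst D'.base ι ≫ r
  have hinv'' : ∀ σ, (pbAct h.hρ' ι σ).hom ≫ p'' = p'' := fun σ => by
    show _ ≫ pullback.fst D'.base ι ≫ r = _
    rw [← Category.assoc, pbAct_fst, Category.assoc, h.hr.inv]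
  have hWeq'' : p'' ⁻¹ᵁ (m ⁻¹ᵁ Z0) =
      (pullback.fst D'.base ι ≫ c) ⁻¹ᵁ (q ⁻¹ᵁ Uy) ⊓ (D'.pb ι).base ⁻¹ᵁ ⊤ := by
    show pullback.fst D'.base ι ⁻¹ᵁ (r ⁻¹ᵁ (m ⁻¹ᵁ Z0)) = _
    rw [hWeq]
    refine le_antisymm (le_inf (fun z hz => hz.1) le_top) (fun z hz => ⟨hz.1, ?_⟩)
    show D'.base (pullback.fst D'.base ι z) ∈ V'
    rw [← Scheme.Hom.comp_apply, pullback.condition]
    exact hι trivial
  have haff'' : IsAffineOpen (p'' ⁻¹ᵁ (m ⁻¹ᵁ Z0)) := by
    have := isAffineOpen_pullback_box D'.base ι (hU'.preimage r) hV' (isAffineOpen_top K) hW'V hι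
    simpa [p''] using this
  have hx'' : x ∈ p'' ⁻¹ᵁ (m ⁻¹ᵁ Z0) := by
    show r (pullback.fst D'.base ι x) ∈ m ⁻¹ᵁ Z0
    rw [hx]
    exact hy
  have hcb'' : (pullback.fst D'.base ι ≫ c) ≫ D.base = (D'.pb ι).base ≫ ι ≫ g := by
    show _ = pullback.snd D'.base ι ≫ ι ≫ g
    rw [Category.assoc, h.hcb, pullback.condition_assoc]
  have hcπ'' : ∀ i, (pullback.fst D'.base ι ≫ c) ≫ D.π i =
      (D'.pb ι).π i ≫ pullback.fst f' ι ≫ a := fun i => by
    simp only [FP.pb, pullback.map, Category.assoc, h.hcπ, pullback.lift_fst_assoc]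
  obtain ⟨s, hs, z, hz, hxs, e⟩ := exists_local_surj (f' := pullback.snd f' ι) (g := ι ≫ g) (D' := D'.pb ι)
    h.hρ (FP.pb_isAct h.hρ' ι (pbAct h.hρ' ι) fun σ => ⟨pbAct_fst _ _ σ, pbAct_snd _ _ σ⟩)
    h.hq.inv hinv'' hcb'' hcπ'' (hUy.preimage q) haff'' hV (isAffineOpen_top K) hWV
    (fun z hz => hVV (hι hz)) hWeq'' ((h.spans V V' hV hV' hVV).fibre hV' ι hι)
    (by rw [Category.assoc, h.haf, pullback.condition_assoc]) hx'' (p''.app _ w)
    (fun σ => congr($(IsQuot25.actHom_app hinv'' _ σ) w))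
  let θ : pullback D'.base ι ⟶ pullback gY g := p'' ≫ m
  let L : Subring ((pullback D'.base ι).residueField x) := (θ.residueFieldMap x).hom.range
  let ev := ((pullback D'.base ι).evaluation (p'' ⁻¹ᵁ (m ⁻¹ᵁ Z0)) x hx'').hom
  have hθ1 : θ ≫ pullback.fst gY g = (pullback.fst D'.base ι ≫ c) ≫ q := by
    simp only [θ, p'', Category.assoc, h.hm₁]
  have hθ2 : θ ≫ pullback.snd gY g = pullback.snd D'.base ι ≫ ι := by
    simp only [θ, p'', Category.assoc, h.hm₂, pullback.condition]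
  have hL : ∀ (T : Scheme.{u}) (φ : pullback gY g ⟶ T) (ψ : pullback D'.base ι ⟶ T), θ ≫ φ = ψ →
      (ψ.residueFieldMap x).hom.range ≤ L := by
    rintro T φ _ rfl _ ⟨t, rfl⟩
    exact ⟨φ.residueFieldMap (θ x) t, (residueFieldMap_comp_apply θ φ x t).symm⟩
  have hin : ∀ u ∈ imSpan h.hq.inv Uy (D'.pb ι) (pullback.fst D'.base ι ≫ c) (le_preimage hWeq'').1
      (le_preimage hWeq'').2, ev u ∈ L := by
    intro u hu
    refine map_mem_of_mem_imSpan h.hq _ _ ev L (fun t => ?_) (fun u => ?_) hu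
    · refine hL _ (pullback.snd gY g) (pullback.snd D'.base ι ≫ ι) hθ2 ?_
      obtain ⟨t', ht'⟩ : K.evaluation ⊤ (pullback.snd D'.base ι x) trivial t ∈
          (ι.residueFieldMap (pullback.snd D'.base ι x)).hom.range := by
        obtain ⟨e', he'⟩ := Scheme.residue_surjective K _ (K.evaluation ⊤ (pullback.snd D'.base ι x) trivial t)
        obtain ⟨e'', rfl⟩ := SurjectiveOnStalks.stalkMap_surjective ι (pullback.snd D'.base ι x) e'
        exact ⟨S'.residue _ e'', congr($(Scheme.residue_residueFieldMap ι _) e'').trans he'⟩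
      refine ⟨t', (residueFieldMap_comp_apply (pullback.snd D'.base ι) ι x t').trans ?_⟩
      exact (congrArg _ ht').trans (residueFieldMap_evaluation (pullback.snd D'.base ι) (U := ⊤) (V := p'' ⁻¹ᵁ (m ⁻¹ᵁ Z0)) (fun _ _ => trivial) x hx'' t)
    · exact hL _ (pullback.fst gY g) ((pullback.fst D'.base ι ≫ c) ≫ q) hθ1
        ⟨_, residueFieldMap_evaluation ((pullback.fst D'.base ι ≫ c) ≫ q) (U := Uy) (le_preimage hWeq'').1 x hx'' u⟩
  have hs0 : ev s ≠ 0 := (Scheme.evaluation_ne_zero_iff_mem_basicOpen _ x hx'' s).2 hxs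
  obtain ⟨e₁, he₁⟩ := hin s hs
  obtain ⟨e₂, he₂⟩ := hin z hz
  have e0 := congrArg ev e
  rw [map_mul, ← he₁, ← he₂] at e0
  -- descend to the point of the quotient
  suffices key : ∀ (y : Y') (hy' : y ∈ m ⁻¹ᵁ Z0), y = p'' x → Y'.evaluation _ y hy' w ∈ (m.residueFieldMap y).hom.range from
    key _ hy (by show r x' = r (pullback.fst D'.base ι x); rw [hx])
  rintro _ hy' rfl
  refine ⟨e₂ / e₁, (p''.residueFieldMap x).hom.injective ?_⟩
  show p''.residueFieldMap x (m.residueFieldMap (p'' x) (e₂ / e₁)) = _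
  rw [← residueFieldMap_comp_apply]
  refine Eq.trans ?_ (Scheme.evaluation_naturality_apply p'' x hy' w).symm
  show θ.residueFieldMap x (e₂ / e₁) = ev (p''.app _ w)
  rw [map_div₀, div_eq_iff (show θ.residueFieldMap x e₁ ≠ 0 from fun h0 => hs0 (he₁.symm.trans h0))]
  exact e0.symm.trans (mul_comm _ _)

end Groth.Agent.SymFlat14
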