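import Groth.Agent.Lib.SymFlat14.Pure
import Groth.Agent.Lib.SymFlat14.Quot
import Groth.Agent.Lib.SymFlat14.Prod
import Groth.Agent.Lib.IsQuot25.Local

/-!
# Base change of symmetric products of flat families
-/

set_option autoImplicit false
set_option backward.isDefEq.respectTransparency.types false
universe u

open CategoryTheory CategoryTheory.Limits AlgebraicGeometry TopologicalSpace TensorProduct

namespace Groth.Agent.SymFlat14

/-- Sections of a fibre product of affine opens. -/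
theorem exists_sections_equiv {X S X' S' : Scheme.{u}} {pX : X' ⟶ X} {p' : X' ⟶ S'} {p : X ⟶ S} {b : S' ⟶ S}
    (H : IsPullback pX p' p b) {V : S.Opens} (hV : IsAffineOpen V) {V' : S'.Opens} (hV' : IsAffineOpen V')
    {U : X.Opens} (hU : IsAffineOpen U) (hVV : V' ≤ b ⁻¹ᵁ V) (hUV : U ≤ p ⁻¹ᵁ V) {W : X'.Opens}
    (hW : W = pX ⁻¹ᵁ U ⊓ p' ⁻¹ᵁ V') (h1 : W ≤ p' ⁻¹ᵁ V') (h2 : W ≤ pX ⁻¹ᵁ U) :
    letI := (b.appLE V V' hVV).hom.toAlgebra
    letI := (p.appLE V U hUV).hom.toAlgebra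
    ∃ e : Γ(S', V') ⊗[Γ(S, V)] Γ(X, U) ≃+ Γ(X', W),
      ∀ r x, e (r ⊗ₜ x) = p'.appLE V' W h1 r * pX.appLE U W h2 x := by
  have hpo := (isIso_pushoutSection_iff H hVV hUV hW).1
    (isIso_pushoutSection_of_isAffineOpen H hVV hUV hW hV hV' hU)
  let i : Γ(S, V) ⟶ Γ(X, U) := p.appLE V U hUV
  let j : Γ(S, V) ⟶ Γ(S', V') := b.appLE V V' hVV
  let i' : Γ(S', V') ⟶ Γ(X', W) := p'.appLE V' W h1
  let k : Γ(X, U) ⟶ Γ(X', W) := pX.appLE U W h2
  letI : Algebra Γ(S, V) Γ(X, U) := i.hom.toAlgebra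
  letI : Algebra Γ(S, V) Γ(S', V') := j.hom.toAlgebra
  letI : Algebra Γ(X, U) Γ(X', W) := k.hom.toAlgebra
  letI : Algebra Γ(S', V') Γ(X', W) := i'.hom.toAlgebra
  letI : Algebra Γ(S, V) Γ(X', W) := (i ≫ k).hom.toAlgebra
  have hw : i ≫ k = j ≫ i' := hpo.w
  haveI : IsScalarTower Γ(S, V) Γ(X, U) Γ(X', W) := .of_algebraMap_eq' rfl
  haveI : IsScalarTower Γ(S, V) Γ(S', V') Γ(X', W) := .of_algebraMap_eq' (congrArg CommRingCat.Hom.hom hw)
  haveI : Algebra.IsPushout Γ(S, V) Γ(S', V') Γ(X, U) Γ(X', W) := by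
    rw [← CommRingCat.isPushout_iff_isPushout]
    have := hpo.flip
    simpa only [i, j, k, i', RingHom.algebraMap_toAlgebra, CommRingCat.ofHom_hom] using this
  exact ⟨(Algebra.IsPushout.equiv Γ(S, V) Γ(S', V') Γ(X, U) Γ(X', W)).toAddEquiv,
    fun r x => Algebra.IsPushout.equiv_tmul _ _ _ _ r x⟩

theorem pure_invSub_tpow (R A : Type u) [CommRing R] [CommRing A] [Algebra R A] [Module.Flat R A] (d : ℕ)
    {l : ℕ} (f : Fin l → R) (x : Fin l → GammaD.Tpow R A d)
    (h : ∀ g : Gd.{u} d, g • ∑ i, f i • x i = ∑ i, f i • x i) :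
    ∃ y : Fin l → GammaD.Tpow R A d, (∀ i, ∀ g : Gd.{u} d, g • y i = y i) ∧
      ∑ i, f i • x i = ∑ i, f i • y i := by
  obtain ⟨y, hy, he⟩ := sym_pure f x (invSub_eq R A d ▸ (mem_invSub (R := R) (G := Gd.{u} d)).2 h)
  exact ⟨y, fun i => mem_invSub.1 ((invSub_eq R A d).symm ▸ hy i), he⟩

variable {X S Y P : Scheme.{u}} {f : X ⟶ S} {d : ℕ} {D : FP f d P} {ρ : Gd.{u} d →* Aut P} {p : P ⟶ Y}

set_option maxHeartbeats 1000000 in
/-- Invariants of a fibre power of a flat morphism form a pure submodule. -/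
theorem pure_invariants [Flat f] (hρ : D.IsAct ρ) (hinv : ∀ σ, (ρ σ).hom ≫ p = p) {Uy : Y.Opens}
    (hW : IsAffineOpen (p ⁻¹ᵁ Uy)) {V : S.Opens} (hV : IsAffineOpen V)
    (hWV : p ⁻¹ᵁ Uy ≤ D.base ⁻¹ᵁ V) {l : ℕ} (fc : Fin l → Γ(S, V)) (c : Fin l → Γ(P, p ⁻¹ᵁ Uy)) :
    letI := acton hinv Uy; letI := algW D hWV; haveI := smulComm hρ hinv Uy hWV
    ∑ i, fc i • c i ∈ invSub Γ(S, V) (Gd.{u} d) Γ(P, p ⁻¹ᵁ Uy) →
      ∃ y : Fin l → Γ(P, p ⁻¹ᵁ Uy), (∀ i, y i ∈ invSub Γ(S, V) (Gd.{u} d) Γ(P, p ⁻¹ᵁ Uy)) ∧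
        ∑ i, fc i • c i = ∑ i, fc i • y i := by
  let _ := acton hinv Uy
  let _ := algW D hWV
  have := smulComm hρ hinv Uy hWV
  intro hmem
  refine pure_invSub (fun Q hQ l fc c hc => ?_) fc c (mem_invSub.1 hmem)
  let x : P := hW.fromSpec ⟨Q, hQ⟩
  have hx : x ∈ p ⁻¹ᵁ Uy := hW.range_fromSpec.le ⟨_, rfl⟩
  have hmem' : ∀ s, x ∈ P.basicOpen s ↔ s ∉ Q := fun s => by
    show (⟨Q, hQ⟩ : PrimeSpectrum Γ(P, p ⁻¹ᵁ Uy)) ∈ hW.fromSpec ⁻¹ᵁ P.basicOpen s ↔ _
    rw [hW.fromSpec_preimage_basicOpen]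
    exact Iff.rfl
  obtain ⟨b, h, v, hcut, hxh, hbad⟩ := exists_cut hρ hinv hW hV hWV hx
  let _ := b.algO D hcut.le
  have := b.flat_A
  exact exists_local_ideal (hcut.model hρ hW hWV) (pure_invSub_tpow Γ(S, V) b.A d) Q ((hmem' h).1 hxh)
    (fun σ hσ => not_not.1 fun hh => hbad σ hσ ((hmem' _).2 hh)) fc c hc

theorem isPullback_fibPow (f : X ⟶ S) (n : ℕ) {S' : Scheme.{u}} (b : S' ⟶ S)
    (c : SymProd.fibPow (pullback.snd f b) n ⟶ SymProd.fibPow f n)
    (hcπ : ∀ i : Fin n, c ≫ WidePullback.π (fun _ => f) i =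
      WidePullback.π (fun _ => pullback.snd f b) i ≫ pullback.fst f b)
    (hcb : c ≫ WidePullback.base (fun _ => f) = WidePullback.base (fun _ => pullback.snd f b) ≫ b) :
    IsPullback c (WidePullback.base fun _ : Fin n => pullback.snd f b)
      (WidePullback.base fun _ : Fin n => f) b := by
  refine IsPullback.of_isLimit' ⟨hcb⟩ (PullbackCone.IsLimit.mk _
    (fun s => WidePullback.lift s.snd (fun i => pullback.lift (s.fst ≫ WidePullback.π (fun _ : Fin n => f) i) s.snd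
      (by rw [Category.assoc, WidePullback.π_arrow]; exact s.condition)) fun i => pullback.lift_snd _ _ _)
    (fun s => ?_) (fun s => WidePullback.lift_base _ _ _ _) fun s m hm₁ hm₂ => ?_)
  · refine WidePullback.hom_ext _ _ _ (fun i => ?_) ?_
    · rw [Category.assoc, hcπ, ← Category.assoc, WidePullback.lift_π, pullback.lift_fst]
    · rw [Category.assoc, hcb, ← Category.assoc, WidePullback.lift_base]
      exact s.condition.symm
  · refine WidePullback.hom_ext _ _ _ (fun i => ?_) (by rw [WidePullback.lift_base]; exact hm₂)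
    rw [WidePullback.lift_π]
    refine pullback.hom_ext ?_ ?_
    · rw [pullback.lift_fst, Category.assoc, ← hcπ, reassoc_of% hm₁]
    · rw [pullback.lift_snd, Category.assoc, WidePullback.π_arrow]
      exact hm₂

set_option maxHeartbeats 4000000 in
/-- Symmetric products of flat families commute with base change. -/
theorem isSymProd_baseChange {S' : Scheme.{u}} (f : X ⟶ S) [Flat f] (n : ℕ) (q : SymProd.fibPow f n ⟶ Y)
    (g : Y ⟶ S) (hq : SymProd.IsSymProd f n q g) (b : S' ⟶ S)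
    (c : SymProd.fibPow (pullback.snd f b) n ⟶ SymProd.fibPow f n)
    (hcπ : ∀ i : Fin n, c ≫ WidePullback.π (fun _ => f) i =
      WidePullback.π (fun _ => pullback.snd f b) i ≫ pullback.fst f b)
    (hcb : c ≫ WidePullback.base (fun _ => f) = WidePullback.base (fun _ => pullback.snd f b) ≫ b)
    (q' : SymProd.fibPow (pullback.snd f b) n ⟶ pullback g b)
    (hq'₁ : q' ≫ pullback.fst g b = c ≫ q)
    (hq'₂ : q' ≫ pullback.snd g b = WidePullback.base (fun _ => pullback.snd f b)) :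
    SymProd.IsSymProd (pullback.snd f b) n q' (pullback.snd g b) := by
  refine ⟨?_, hq'₂⟩
  have hρ := FP.wide_isAct f n
  have hρ' := FP.wide_isAct (pullback.snd f b) n
  have sq := isPullback_fibPow f n b c hcπ hcb
  have sq2 : IsPullback c q' q (pullback.fst g b) := by
    refine IsPullback.of_bot ?_ hq'₁.symm (IsPullback.of_hasPullback g b)
    rw [hq'₂, hq.over]
    exact sq
  haveI := hq.isQuot.affine
  haveI : IsAffineHom q' := MorphismProperty.of_isPullback sq2 hq.isQuot.affine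
  haveI : Surjective q := ⟨IsQuot25.surjective hq.isQuot⟩
  haveI : Surjective q' := MorphismProperty.of_isPullback sq2 ‹Surjective q›
  have hinv' : ∀ σ, (SymProd.permActU (pullback.snd f b) n σ).hom ≫ q' = q' := fun σ => by
    apply pullback.hom_ext
    · rw [Category.assoc, hq'₁, ← Category.assoc, c_comm (g := b) hρ hρ' hcb hcπ, Category.assoc,
        hq.isQuot.inv]
    · rw [Category.assoc, hq'₂]
      exact hρ'.base σ
  refine IsQuot25.of_affineCover ‹_› hinv' fun y' => ?_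
  obtain ⟨V, hV, hyV, -⟩ := exists_isAffineOpen_mem_and_subset
    (show g (pullback.fst g b y') ∈ (⊤ : S.Opens) from trivial)
  obtain ⟨Uy, hUy, hyU, hUV⟩ := exists_isAffineOpen_mem_and_subset
    (show pullback.fst g b y' ∈ g ⁻¹ᵁ V from hyV)
  obtain ⟨V', hV', hyV', hVV'⟩ := exists_isAffineOpen_mem_and_subset
    (show pullback.snd g b y' ∈ b ⁻¹ᵁ V from by
      show b (pullback.snd g b y') ∈ V
      rw [← Scheme.Hom.comp_apply, ← pullback.condition]
      exact hyV)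
  have hVV : V' ≤ b ⁻¹ᵁ V := hVV'
  replace hUV : Uy ≤ g ⁻¹ᵁ V := hUV
  let Z0 := pullback.fst g b ⁻¹ᵁ Uy ⊓ pullback.snd g b ⁻¹ᵁ V'
  have hZ : IsAffineOpen Z0 := isAffineOpen_pullback_box g b hUy hV hV' hUV hVV
  refine ⟨Z0, hZ, ⟨hyU, hyV'⟩, ?_⟩
  let base' := WidePullback.base fun _ : Fin n => pullback.snd f b
  have hWeq : q' ⁻¹ᵁ Z0 = c ⁻¹ᵁ (q ⁻¹ᵁ Uy) ⊓ base' ⁻¹ᵁ V' := by
    rw [← Scheme.Hom.comp_preimage c q, ← hq'₁]
    simp only [base', ← hq'₂]
    rfl
  have hWV : q ⁻¹ᵁ Uy ≤ (FP.wide f n).base ⁻¹ᵁ V := fun z hz => by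
    show (WidePullback.base fun _ : Fin n => f) z ∈ V
    rw [← hq.over]
    exact hUV hz
  have hW := hUy.preimage q
  obtain ⟨hWc, hW'V⟩ := le_preimage (D' := FP.wide (pullback.snd f b) n) (c := c) hWeq
  refine ⟨?_, fun w hw => ?_⟩
  · -- injectivity
    letI := (b.appLE V V' hVV).hom.toAlgebra
    letI := (g.appLE V Uy hUV).hom.toAlgebra
    let _ := acton hq.isQuot.inv Uy
    let _ := algW (FP.wide f n) hWV
    have := smulComm hρ hq.isQuot.inv Uy hWV
    obtain ⟨eA, heA⟩ := exists_sections_equiv (IsPullback.of_hasPullback g b) hV hV' hUy hVV hUV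
      (W := Z0) rfl inf_le_right inf_le_left
    obtain ⟨eC, heC⟩ := exists_sections_equiv sq hV hV' hW hVV hWV hWeq hW'V hWc
    let jl : Γ(Y, Uy) →ₗ[Γ(S, V)] Γ(SymProd.fibPow f n, q ⁻¹ᵁ Uy) :=
      { toFun := q.app Uy
        map_add' := map_add (q.app Uy).hom
        map_smul' := fun t u => by
          show q.app Uy (g.appLE V Uy hUV t * u) = (WidePullback.base fun _ : Fin n => f).appLE V _ hWV t * q.app Uy u
          rw [map_mul]
          congr 1
          show (g.appLE V Uy hUV ≫ q.app Uy) t = _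
          rw [q.app_eq_appLE, Scheme.Hom.appLE_comp_appLE]
          simp only [hq.over] }
    let N := invSub Γ(S, V) (Gd.{u} n) Γ(SymProd.fibPow f n, q ⁻¹ᵁ Uy)
    have hjN : ∀ u, jl u ∈ N := fun u σ =>
      (IsQuot25.mem_range_iff hq.isQuot Uy _).1 ⟨u, rfl⟩ σ⁻¹
    let j₀ : Γ(Y, Uy) ≃ₗ[Γ(S, V)] N := LinearEquiv.ofBijective (jl.codRestrict N hjN)
      ⟨fun u v h => hq.isQuot.injective Uy (congrArg Subtype.val h), fun x => by
        obtain ⟨u, hu⟩ := (IsQuot25.mem_range_iff hq.isQuot Uy x.1).2 fun σ => by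
          have := x.2 σ⁻¹
          change IsQuot25.actHom hq.isQuot.inv Uy σ⁻¹⁻¹ x.1 = x.1 at this
          rwa [inv_inv] at this
        exact ⟨u, Subtype.ext hu⟩⟩
    have hflat : Flat (WidePullback.base fun _ : Fin n => f) := flat_fibPow f n
    haveI : Module.Flat Γ(S, V) Γ(SymProd.fibPow f n, q ⁻¹ᵁ Uy) :=
      (WidePullback.base fun _ : Fin n => f).flat_appLE hV hW hWV
    haveI : Module.Flat Γ(S, V) (Γ(SymProd.fibPow f n, q ⁻¹ᵁ Uy) ⧸ N) :=
      flat_quot_of_pure N fun fc cc h => pure_invariants hρ hq.isQuot.inv hW hV hWV fc cc h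
    have hj : Function.Injective (jl.lTensor Γ(S', V')) := by
      rw [show jl = N.subtype ∘ₗ j₀.toLinearMap from LinearMap.ext fun u => rfl, LinearMap.lTensor_comp]
      exact (lTensor_injective_of_flat_quot N _).comp (LinearEquiv.lTensor _ j₀).injective
    have hcomm : ∀ t, q'.app Z0 (eA t) = eC (jl.lTensor Γ(S', V') t) := by
      intro t
      induction t using TensorProduct.induction_on with
      | zero => simp only [map_zero]; exact (map_zero eC).symm
      | tmul r u =>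
        rw [LinearMap.lTensor_tmul, heA, map_mul]
        erw [heC]
        congr 1
        · show ((pullback.snd g b).appLE V' Z0 _ ≫ q'.app Z0) r = _
          rw [q'.app_eq_appLE, Scheme.Hom.appLE_comp_appLE]
          simp only [hq'₂]
        · show ((pullback.fst g b).appLE Uy Z0 _ ≫ q'.app Z0) u = (q.app Uy ≫ c.appLE _ _ hWc) u
          rw [q'.app_eq_appLE, q.app_eq_appLE, Scheme.Hom.appLE_comp_appLE, Scheme.Hom.appLE_comp_appLE]
          simp only [hq'₁]
      | add x y hx hy => simp only [map_add, hx, hy]; exact (map_add eC _ _).symm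
    intro a a' h
    obtain ⟨t, rfl⟩ := eA.surjective a
    obtain ⟨t', rfl⟩ := eA.surjective a'
    rw [hcomm, hcomm] at h
    rw [hj (eC.injective h)]
  · -- surjectivity
    have key : ∀ s ∈ imSpan hq.isQuot.inv Uy (FP.wide (pullback.snd f b) n) c hWc hW'V,
        s ∈ (q'.app Z0).hom.range := by
      intro s hs
      refine map_mem_of_mem_imSpan hq.isQuot _ _ (RingHom.id _) _ (fun t => ?_) (fun u => ?_) hs
      · refine ⟨(pullback.snd g b).appLE V' Z0 inf_le_right t, ?_⟩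
        show ((pullback.snd g b).appLE V' Z0 _ ≫ q'.app Z0) t = base'.appLE V' _ hW'V t
        rw [q'.app_eq_appLE, Scheme.Hom.appLE_comp_appLE]
        simp only [hq'₂, base']
      · refine ⟨(pullback.fst g b).appLE Uy Z0 inf_le_left u, ?_⟩
        show ((pullback.fst g b).appLE Uy Z0 _ ≫ q'.app Z0) u = (c ≫ q).appLE _ _ _ u
        rw [q'.app_eq_appLE, Scheme.Hom.appLE_comp_appLE]
        simp only [hq'₁]
    let J : Ideal Γ(pullback g b, Z0) :=
      { carrier := {σ | q'.app Z0 σ * w ∈ (q'.app Z0).hom.range}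
        zero_mem' := by
          rw [Set.mem_setOf_eq, map_zero, zero_mul]
          exact zero_mem _
        add_mem' := fun {x y} hx hy => by
          rw [Set.mem_setOf_eq, map_add, add_mul]
          exact add_mem hx hy
        smul_mem' := fun r x hx => by
          rw [Set.mem_setOf_eq, smul_eq_mul, map_mul, mul_assoc]
          exact mul_mem ⟨r, rfl⟩ hx }
    suffices htop : J = ⊤ by
      obtain ⟨a, ha⟩ : q'.app Z0 1 * w ∈ (q'.app Z0).hom.range := (htop ▸ Submodule.mem_top : (1 : _) ∈ J)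
      exact ⟨a, ha.trans (by rw [map_one, one_mul])⟩
    by_contra hne
    obtain ⟨Q, hQ, hle⟩ := Ideal.exists_le_maximal J hne
    let y₀ : ↥(pullback g b) := hZ.fromSpec ⟨Q, hQ.isPrime⟩
    have hy₀ : y₀ ∈ Z0 := hZ.range_fromSpec.le ⟨_, rfl⟩
    have hmem : ∀ s : Γ(pullback g b, Z0), y₀ ∈ (pullback g b).basicOpen s ↔ s ∉ Q := fun s => by
      exact SetLike.ext_iff.1 (hZ.fromSpec_preimage_basicOpen s) ⟨Q, hQ.isPrime⟩
    obtain ⟨x', hx'⟩ := q'.surjective y₀
    have hx'W : x' ∈ q' ⁻¹ᵁ Z0 := by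
      show q' x' ∈ Z0
      rw [hx']
      exact hy₀
    obtain ⟨s, hs, z, hz, hxs, e⟩ := exists_local_surj (f' := pullback.snd f b) hρ hρ' hq.isQuot.inv hinv'
      hcb hcπ hW (hZ.preimage q') hV hV' hWV hVV hWeq (spans_pullback hV hV' hVV) pullback.condition hx'W w
      hw
    obtain ⟨σ, rfl⟩ := key s hs
    obtain ⟨ζ, rfl⟩ := key z hz
    refine (hmem σ).1 ?_ (hle ⟨ζ, e.symm⟩)
    rw [← hx']
    change x' ∈ q' ⁻¹ᵁ (pullback g b).basicOpen σ
    rw [Scheme.preimage_basicOpen]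
    exact hxs

end Groth.Agent.SymFlat14
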