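import Groth.Agent.Lib.SymFlat14.Tensor
import Groth.Prelude.Def_SymProd
import Groth.Agent.Lib.IsQuot25.Basic
import Mathlib.AlgebraicGeometry.AffineScheme
import Mathlib.AlgebraicGeometry.Pullbacks
import Mathlib.RingTheory.Localization.Away.Basic

/-!
# Boxes in fibre powers and their coordinate rings
-/

set_option autoImplicit false
set_option backward.isDefEq.respectTransparency.types false
universe u

open CategoryTheory CategoryTheory.Limits AlgebraicGeometry TopologicalSpace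

namespace Groth.Agent.SymFlat14

open Groth.Agent.GammaD

section FP

variable {X S : Scheme.{u}}

/-- A `d`-fold fibre power of `f`. -/
structure FP (f : X ⟶ S) (d : ℕ) (P : Scheme.{u}) where
  base : P ⟶ S
  π : Fin d → (P ⟶ X)
  w : ∀ i, π i ≫ f = base
  lift : ∀ {T : Scheme.{u}} (b : T ⟶ S) (a : Fin d → (T ⟶ X)), (∀ i, a i ≫ f = b) → (T ⟶ P)
  lift_base : ∀ {T : Scheme.{u}} (b : T ⟶ S) (a : Fin d → (T ⟶ X)) (h : ∀ i, a i ≫ f = b),
    lift b a h ≫ base = b
  lift_π : ∀ {T : Scheme.{u}} (b : T ⟶ S) (a : Fin d → (T ⟶ X)) (h : ∀ i, a i ≫ f = b) (i : Fin d),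
    lift b a h ≫ π i = a i
  hom_ext : ∀ {T : Scheme.{u}} {g₁ g₂ : T ⟶ P}, (∀ i, g₁ ≫ π i = g₂ ≫ π i) → g₁ ≫ base = g₂ ≫ base → g₁ = g₂

/-- The wide pullback. -/
noncomputable def FP.wide (f : X ⟶ S) (d : ℕ) : FP f d (SymProd.fibPow f d) where
  base := WidePullback.base _
  π i := WidePullback.π _ i
  w i := WidePullback.π_arrow (fun _ : Fin d => f) i
  lift b a h := WidePullback.lift b a h
  lift_base _ _ _ := WidePullback.lift_base _ _ _ _
  lift_π _ _ _ i := WidePullback.lift_π _ _ _ _ i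
  hom_ext h₁ h₂ := WidePullback.hom_ext _ _ _ h₁ h₂

/-- The base change of a fibre power. -/
noncomputable def FP.pb {f : X ⟶ S} {d : ℕ} {P : Scheme.{u}} (D : FP f d P) {S' : Scheme.{u}}
    (b : S' ⟶ S) : FP (pullback.snd f b) d (pullback D.base b) where
  base := pullback.snd D.base b
  π i := pullback.map D.base b f b (D.π i) (𝟙 S') (𝟙 S)
    ((Category.comp_id _).trans (D.w i).symm) ((Category.comp_id b).trans (Category.id_comp b).symm)
  w i := (pullback.lift_snd _ _ _).trans (Category.comp_id _)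
  lift {T} t a h := pullback.lift
    (D.lift (t ≫ b) (fun i => a i ≫ pullback.fst f b) fun i => by
      rw [Category.assoc, pullback.condition, reassoc_of% (h i)])
    t (D.lift_base _ _ _)
  lift_base _ _ _ := pullback.lift_snd _ _ _
  lift_π t a h i := by
    apply pullback.hom_ext
    · simp only [pullback.map, Category.assoc, pullback.lift_fst, pullback.lift_fst_assoc, D.lift_π]
    · simp only [pullback.map, Category.assoc, pullback.lift_snd, Category.comp_id, h]
  hom_ext {T g₁ g₂} h₁ h₂ := by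
    apply pullback.hom_ext _ h₂
    refine D.hom_ext (fun i => ?_) ?_
    · have := congrArg (· ≫ pullback.fst f b) (h₁ i)
      simpa only [pullback.map, Category.assoc, pullback.lift_fst] using this
    · simp only [Category.assoc, pullback.condition]
      rw [reassoc_of% h₂]

/-- Permutation of the factors. -/
structure FP.IsAct {f : X ⟶ S} {d : ℕ} {P : Scheme.{u}} (D : FP f d P) (ρ : Gd.{u} d →* Aut P) : Prop where
  π : ∀ σ i, (ρ σ).hom ≫ D.π i = D.π (σ.down.symm i)
  base : ∀ σ, (ρ σ).hom ≫ D.base = D.base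

theorem FP.wide_isAct (f : X ⟶ S) (d : ℕ) : (FP.wide f d).IsAct (SymProd.permActU f d) :=
  ⟨fun σ i => SymProd.permHom_π f d σ.down i, fun σ => SymProd.permHom_base f d σ.down⟩

theorem FP.pb_isAct {f : X ⟶ S} {d : ℕ} {P : Scheme.{u}} {D : FP f d P} {ρ : Gd.{u} d →* Aut P}
    (hρ : D.IsAct ρ) {S' : Scheme.{u}} (b : S' ⟶ S) (ρ' : Gd.{u} d →* Aut (pullback D.base b))
    (h : ∀ σ, (ρ' σ).hom ≫ pullback.fst D.base b = pullback.fst D.base b ≫ (ρ σ).hom ∧
      (ρ' σ).hom ≫ pullback.snd D.base b = pullback.snd D.base b) : (D.pb b).IsAct ρ' := by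
  refine ⟨fun σ i => ?_, fun σ => (h σ).2⟩
  apply pullback.hom_ext
  · simp only [FP.pb, pullback.map, Category.assoc, pullback.lift_fst]
    rw [reassoc_of% (h σ).1, hρ.π]
  · simp only [FP.pb, pullback.map, Category.assoc, pullback.lift_snd, Category.comp_id]
    exact (h σ).2

end FP

theorem ringHom_ext_tpow {R A Q : Type u} [CommRing R] [CommRing A] [Algebra R A] [CommRing Q] {d : ℕ}
    {f g : Tpow R A d →+* Q} (h₀ : ∀ r : R, f (algebraMap R _ r) = g (algebraMap R _ r))
    (h₁ : ∀ (i : Fin d) (a : A),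
      f (PiTensorProduct.singleAlgHom (R := R) (A := fun _ : Fin d => A) i a) =
        g (PiTensorProduct.singleAlgHom (R := R) (A := fun _ : Fin d => A) i a)) : f = g := by
  refine RingHom.ext fun t => ?_
  induction t using PiTensorProduct.induction_on with
  | smul_tprod r x =>
    rw [Algebra.smul_def, map_mul, map_mul, h₀, ← prod_single, map_prod, map_prod]
    simp only [h₁]
  | add x y hx hy => rw [map_add, map_add, hx, hy]

theorem basicOpen_appLE {X Y : Scheme.{u}} (f : X ⟶ Y) {U : Y.Opens} {V : X.Opens} (e : V ≤ f ⁻¹ᵁ U)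
    (s : Γ(Y, U)) : X.basicOpen (f.appLE U V e s) = V ⊓ f ⁻¹ᵁ Y.basicOpen s := by
  rw [Scheme.Hom.appLE, CommRingCat.comp_apply, Scheme.basicOpen_res, Scheme.preimage_basicOpen]

/-- Data of a box in fibre powers of `f`. -/
structure Box {X S : Scheme.{u}} (f : X ⟶ S) (d : ℕ) (V : S.Opens) where
  hV : IsAffineOpen V
  J : Type u
  fin : Finite J
  U : J → X.Opens
  hU : ∀ j, IsAffineOpen (U j)
  hUV : ∀ j, U j ≤ f ⁻¹ᵁ V
  φ : Fin d → J

namespace Box

variable {X S : Scheme.{u}} {f : X ⟶ S} {d : ℕ} {V : S.Opens} (b : Box f d V)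

/-- Ring of the chart. -/
abbrev A : Type u := ∀ j : b.J, Γ(X, b.U j)

noncomputable instance algU (j : b.J) : Algebra Γ(S, V) Γ(X, b.U j) :=
  (f.appLE V (b.U j) (b.hUV j)).hom.toAlgebra

/-- The stabilizer of the box. -/
def H : Subgroup (Gd.{u} d) where
  carrier := {σ | ∀ i, b.φ (σ.down.symm i) = b.φ i}
  one_mem' _ := rfl
  mul_mem' {σ τ} hσ hτ i := (hτ (σ.down.symm i)).trans (hσ i)
  inv_mem' {σ} hσ i := by
    have := hσ (σ.down i)
    rw [Equiv.symm_apply_apply] at this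
    exact this.symm

theorem mem_H {σ : Gd.{u} d} : σ ∈ b.H ↔ ∀ i, b.φ (σ.down.symm i) = b.φ i := Iff.rfl

/-- The idempotent of the component of the box. -/
noncomputable def e : Tpow Γ(S, V) b.A d :=
  letI := Classical.decEq b.J
  PiTensorProduct.tprod Γ(S, V) fun i => (Pi.single (b.φ i) 1 : b.A)

theorem smul_e {σ : Gd.{u} d} (hσ : σ ∈ b.H) : σ • b.e = b.e := by
  rw [e, smul_tprod]
  exact congrArg (PiTensorProduct.tprod _) (funext fun i => by rw [hσ i])

theorem e_mul_smul_e {σ : Gd.{u} d} (hσ : σ ∉ b.H) : b.e * σ • b.e = 0 := by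
  rw [mem_H, not_forall] at hσ
  obtain ⟨i, hi⟩ := hσ
  rw [e, smul_tprod, PiTensorProduct.tprod_mul_tprod]
  refine MultilinearMap.map_coord_zero (PiTensorProduct.tprod _) i (funext fun j => ?_)
  classical
  simp only [Pi.mul_apply, Pi.zero_apply]
  by_cases hj : j = b.φ i
  · subst hj
    rw [Pi.single_eq_of_ne (fun h => hi h.symm), mul_zero]
  · rw [Pi.single_eq_of_ne hj, zero_mul]

theorem mul_smul_eq_zero {v : Tpow Γ(S, V) b.A d} (hv : b.e ∣ v) {σ : Gd.{u} d} (hσ : σ ∉ b.H) :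
    v * σ • v = 0 := by
  obtain ⟨u, rfl⟩ := hv
  rw [smul_mul', mul_mul_mul_comm, b.e_mul_smul_e hσ, zero_mul]

variable {P : Scheme.{u}} (D : FP f d P)

/-- The box as an open of the fibre power. -/
def B : P.Opens :=
  ⟨D.base ⁻¹' (V : Set S) ∩ ⋂ i : Fin d, D.π i ⁻¹' (b.U (b.φ i) : Set X),
    (V.2.preimage (Scheme.Hom.continuous _)).inter
      (isOpen_iInter_of_finite fun _ => (b.U _).2.preimage (Scheme.Hom.continuous _))⟩

theorem mem_B {z : P} : z ∈ b.B D ↔ D.base z ∈ V ∧ ∀ i, D.π i z ∈ b.U (b.φ i) :=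
  and_congr Iff.rfl Set.mem_iInter

variable {O : P.Opens} (hO : O ≤ b.B D)

include hO in
theorem le_base : O ≤ D.base ⁻¹ᵁ V := fun _ hz => ((b.mem_B D).1 (hO hz)).1

include hO in
theorem le_π (i : Fin d) : O ≤ D.π i ⁻¹ᵁ b.U (b.φ i) := fun _ hz => ((b.mem_B D).1 (hO hz)).2 i

/-- The algebra structure on sections over an open of the box. -/
@[implicit_reducible]
noncomputable def algO : Algebra Γ(S, V) Γ(P, O) :=
  (D.base.appLE V O (b.le_base D hO)).hom.toAlgebra

/-- Coordinate maps. -/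
noncomputable def coordHom (i : Fin d) : letI := b.algO D hO; b.A →ₐ[Γ(S, V)] Γ(P, O) :=
  letI := b.algO D hO
  { toRingHom := ((D.π i).appLE (b.U (b.φ i)) O (b.le_π D hO i)).hom.comp (Pi.evalRingHom _ (b.φ i))
    commutes' := fun r => by
      show (D.π i).appLE (b.U (b.φ i)) O (b.le_π D hO i) (f.appLE V (b.U (b.φ i)) (b.hUV _) r) =
        D.base.appLE V O (b.le_base D hO) r
      rw [← CommRingCat.comp_apply, Scheme.Hom.appLE_comp_appLE]
      simp only [D.w] }

/-- The map from the tensor power to the sections over an open of the box. -/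
noncomputable def ψ : letI := b.algO D hO; Tpow Γ(S, V) b.A d →ₐ[Γ(S, V)] Γ(P, O) :=
  letI := b.algO D hO
  PiTensorProduct.liftAlgHom
    ((MultilinearMap.mkPiAlgebra Γ(S, V) (Fin d) Γ(P, O)).compLinearMap fun i => (b.coordHom D hO i).toLinearMap)
    (by simp)
    (fun x y => by simp [Finset.prod_mul_distrib])

theorem ψ_tprod (a : Fin d → b.A) :
    b.ψ D hO (PiTensorProduct.tprod _ a) =
      ∏ i, (D.π i).appLE (b.U (b.φ i)) O (b.le_π D hO i) (a i (b.φ i)) := by
  letI := b.algO D hO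
  simp only [ψ, PiTensorProduct.liftAlgHom, AlgHom.ofLinearMap_apply, PiTensorProduct.lift.tprod,
    MultilinearMap.compLinearMap_apply, MultilinearMap.mkPiAlgebra_apply]
  rfl

theorem ψ_algebraMap (r : Γ(S, V)) :
    b.ψ D hO (algebraMap _ _ r) = D.base.appLE V O (b.le_base D hO) r :=
  letI := b.algO D hO
  (b.ψ D hO).commutes r

theorem ψ_single (i : Fin d) (a : b.A) :
    b.ψ D hO (PiTensorProduct.singleAlgHom (R := Γ(S, V)) (A := fun _ : Fin d => b.A) i a) =
      (D.π i).appLE (b.U (b.φ i)) O (b.le_π D hO i) (a (b.φ i)) := by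
  classical
  show b.ψ D hO (PiTensorProduct.tprod _ (MonoidHom.mulSingle (fun _ : Fin d => b.A) i a)) = _
  rw [ψ_tprod, Fintype.prod_eq_single i]
  · simp [MonoidHom.mulSingle_apply]
  · intro j hj
    simp [MonoidHom.mulSingle_apply, Pi.mulSingle_eq_of_ne hj]

theorem ψ_e : b.ψ D hO b.e = 1 := by
  classical
  rw [e, ψ_tprod]
  exact Finset.prod_eq_one fun i _ => by rw [Pi.single_eq_same, map_one]

theorem ψ_res {O' : P.Opens} (h : O' ≤ O) (t : Tpow Γ(S, V) b.A d) :
    P.presheaf.map (homOfLE h).op (b.ψ D hO t) = b.ψ D (h.trans hO) t := by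
  refine RingHom.congr_fun (f := (P.presheaf.map (homOfLE h).op).hom.comp
    (letI := b.algO D hO; (b.ψ D hO).toRingHom))
    (g := letI := b.algO D (h.trans hO); (b.ψ D (h.trans hO)).toRingHom) ?_ t
  refine ringHom_ext_tpow (fun r => ?_) fun i a => ?_
  · show P.presheaf.map (homOfLE h).op (b.ψ D hO (algebraMap _ _ r)) = b.ψ D (h.trans hO) (algebraMap _ _ r)
    rw [ψ_algebraMap, ψ_algebraMap, ← CommRingCat.comp_apply, Scheme.Hom.appLE_map]
  · show P.presheaf.map (homOfLE h).op (b.ψ D hO _) = b.ψ D (h.trans hO) _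
    rw [ψ_single, ψ_single, ← CommRingCat.comp_apply, Scheme.Hom.appLE_map]

theorem ψ_smul {ρ : Gd.{u} d →* Aut P} (hρ : D.IsAct ρ) {τ : Gd.{u} d} (hτ : τ ∈ b.H)
    (hstab : O ≤ (ρ τ⁻¹).hom ⁻¹ᵁ O) (t : Tpow Γ(S, V) b.A d) :
    (ρ τ⁻¹).hom.appLE O O hstab (b.ψ D hO t) = b.ψ D hO (τ • t) := by
  refine RingHom.congr_fun (f := ((ρ τ⁻¹).hom.appLE O O hstab).hom.comp
    (letI := b.algO D hO; (b.ψ D hO).toRingHom))
    (g := letI := b.algO D hO; (b.ψ D hO).toRingHom.comp (MulSemiringAction.toRingHom _ _ τ)) ?_ t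
  refine ringHom_ext_tpow (fun r => ?_) fun i a => ?_
  · show (ρ τ⁻¹).hom.appLE O O hstab (b.ψ D hO (algebraMap _ _ r)) = b.ψ D hO (τ • algebraMap _ _ r)
    rw [show τ • algebraMap Γ(S, V) (Tpow Γ(S, V) b.A d) r = algebraMap _ _ r from
      (SymTen.perm _ _ d τ.down).commutes r, ψ_algebraMap, ← CommRingCat.comp_apply,
      Scheme.Hom.appLE_comp_appLE]
    simp only [hρ.base]
  · show (ρ τ⁻¹).hom.appLE O O hstab
        (b.ψ D hO (PiTensorProduct.singleAlgHom (R := Γ(S, V)) (A := fun _ : Fin d => b.A) i a)) =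
      b.ψ D hO (τ • PiTensorProduct.singleAlgHom (R := Γ(S, V)) (A := fun _ : Fin d => b.A) i a)
    rw [smul_single, ψ_single, ψ_single, ← CommRingCat.comp_apply, Scheme.Hom.appLE_comp_appLE]
    have h1 : b.φ (τ.down i) = b.φ i := by
      have := hτ (τ.down i)
      rw [Equiv.symm_apply_apply] at this
      exact this.symm
    have h2 : (ρ τ⁻¹).hom ≫ D.π i = D.π (τ.down i) := by
      rw [hρ.π]
      rfl
    generalize b.le_π D hO i = e1
    generalize b.le_π D hO (τ.down i) = e2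
    revert e2
    rw [h1]
    intro e2
    rw [IsQuot25.appLE_eq h2]

end Box

end Groth.Agent.SymFlat14
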