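import Groth.Agent.Lib.SymFlat14.Chart
import Mathlib.AlgebraicGeometry.Morphisms.Flat
import Mathlib.AlgebraicGeometry.ResidueField

/-!
# Invariants on fibre powers: local surjectivity and flatness
-/

set_option autoImplicit false
set_option backward.isDefEq.respectTransparency.types false
universe u

open CategoryTheory CategoryTheory.Limits AlgebraicGeometry TopologicalSpace

namespace Groth.Agent.SymFlat14

open Groth.Agent.GammaD

theorem flat_pi {R J : Type u} [CommRing R] [Finite J] {M : J → Type u} [∀ j, AddCommGroup (M j)]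
    [∀ j, Module R (M j)] [∀ j, Module.Flat R (M j)] : Module.Flat R (∀ j, M j) := by
  classical
  have := Fintype.ofFinite J
  exact Module.Flat.of_linearEquiv (DFinsupp.linearEquivFunOnFintype (R := R) (M := M)).symm

namespace Box

variable {X S : Scheme.{u}} {f : X ⟶ S} {d : ℕ} {V : S.Opens} (b : Box f d V)

theorem flat_A [Flat f] : Module.Flat Γ(S, V) b.A := by
  have := b.fin
  have : ∀ j, Module.Flat Γ(S, V) Γ(X, b.U j) := fun j =>
    f.flat_appLE b.hV (b.hU j) (b.hUV j)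
  exact flat_pi

/-- The box pulled back along a morphism of families. -/
noncomputable def pullBox {X' S' : Scheme.{u}} (f' : X' ⟶ S') (a : X' ⟶ X) {V' : S'.Opens}
    (hV' : IsAffineOpen V') (hA : ∀ j, IsAffineOpen (a ⁻¹ᵁ b.U j ⊓ f' ⁻¹ᵁ V')) : Box f' d V' :=
  ⟨hV', b.J, b.fin, fun j => a ⁻¹ᵁ b.U j ⊓ f' ⁻¹ᵁ V', hA, fun _ => inf_le_right, b.φ⟩

end Box

variable {X S X' S' : Scheme.{u}} {f : X ⟶ S} {f' : X' ⟶ S'} {d : ℕ} {P P' Y Y' : Scheme.{u}}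
  {D : FP f d P} {D' : FP f' d P'} {ρ : Gd.{u} d →* Aut P} {ρ' : Gd.{u} d →* Aut P'}
  {p : P ⟶ Y} {p' : P' ⟶ Y'} {a : X' ⟶ X} {g : S' ⟶ S} {c : P' ⟶ P}

theorem c_comm (hρ : D.IsAct ρ) (hρ' : D'.IsAct ρ') (hcb : c ≫ D.base = D'.base ≫ g)
    (hcπ : ∀ i, c ≫ D.π i = D'.π i ≫ a) (σ : Gd.{u} d) : (ρ' σ).hom ≫ c = c ≫ (ρ σ).hom := by
  refine D.hom_ext (fun i => ?_) ?_
  · simp only [Category.assoc, hρ.π, hcπ]
    rw [← Category.assoc, hρ'.π]
  · simp only [Category.assoc, hρ.base, hcb]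
    rw [← Category.assoc, hρ'.base]

/-- The span of the image of the invariants. -/
noncomputable def imSpan (hinv : ∀ σ, (ρ σ).hom ≫ p = p) (Uy : Y.Opens) (D' : FP f' d P') (c : P' ⟶ P)
    {W' : P'.Opens} (hle : W' ≤ c ⁻¹ᵁ (p ⁻¹ᵁ Uy)) {V' : S'.Opens} (hW'V : W' ≤ D'.base ⁻¹ᵁ V') :
    letI := algW D' hW'V
    Submodule Γ(S', V') Γ(P', W') :=
  letI := algW D' hW'V
  Submodule.span Γ(S', V') ((fun z => c.appLE _ W' hle z) ''
    {z | ∀ σ : Gd.{u} d, IsQuot25.actHom hinv Uy σ z = z})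

theorem le_preimage {Uy : Y.Opens} {Uy' : Y'.Opens} {V' : S'.Opens}
    (hWeq : p' ⁻¹ᵁ Uy' = c ⁻¹ᵁ (p ⁻¹ᵁ Uy) ⊓ D'.base ⁻¹ᵁ V') :
    p' ⁻¹ᵁ Uy' ≤ c ⁻¹ᵁ (p ⁻¹ᵁ Uy) ∧ p' ⁻¹ᵁ Uy' ≤ D'.base ⁻¹ᵁ V' :=
  ⟨hWeq ▸ inf_le_left, hWeq ▸ inf_le_right⟩

set_option maxHeartbeats 2000000 in
/-- Near a point, invariants are generated by the image of the invariants, if the target family is flat. -/
theorem exists_local_surj [Flat f'] (hρ : D.IsAct ρ) (hρ' : D'.IsAct ρ')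
    (hinv : ∀ σ, (ρ σ).hom ≫ p = p) (hinv' : ∀ σ, (ρ' σ).hom ≫ p' = p')
    (hcb : c ≫ D.base = D'.base ≫ g) (hcπ : ∀ i, c ≫ D.π i = D'.π i ≫ a)
    {Uy : Y.Opens} {Uy' : Y'.Opens} (hW : IsAffineOpen (p ⁻¹ᵁ Uy)) (hW' : IsAffineOpen (p' ⁻¹ᵁ Uy'))
    {V : S.Opens} (hV : IsAffineOpen V) {V' : S'.Opens} (hV' : IsAffineOpen V')
    (hWV : p ⁻¹ᵁ Uy ≤ D.base ⁻¹ᵁ V) (hVV : V' ≤ g ⁻¹ᵁ V)
    (hWeq : p' ⁻¹ᵁ Uy' = c ⁻¹ᵁ (p ⁻¹ᵁ Uy) ⊓ D'.base ⁻¹ᵁ V')
    (hA : ∀ U : X.Opens, IsAffineOpen U → U ≤ f ⁻¹ᵁ V → IsAffineOpen (a ⁻¹ᵁ U ⊓ f' ⁻¹ᵁ V') ∧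
      letI := (f'.appLE V' (a ⁻¹ᵁ U ⊓ f' ⁻¹ᵁ V') inf_le_right).hom.toAlgebra
      Submodule.span Γ(S', V') (Set.range (a.appLE U (a ⁻¹ᵁ U ⊓ f' ⁻¹ᵁ V') inf_le_left)) = ⊤)
    (haf : a ≫ f = f' ≫ g)
    {x' : P'} (hx' : x' ∈ p' ⁻¹ᵁ Uy') (w : Γ(P', p' ⁻¹ᵁ Uy'))
    (hw : ∀ σ, IsQuot25.actHom hinv' Uy' σ w = w) :
    ∃ s ∈ imSpan hinv Uy D' c (le_preimage hWeq).1 (le_preimage hWeq).2,
      ∃ z ∈ imSpan hinv Uy D' c (le_preimage hWeq).1 (le_preimage hWeq).2,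
        x' ∈ P'.basicOpen s ∧ s * w = z := by
  classical
  obtain ⟨hWc, hW'V⟩ := le_preimage hWeq
  let _ := acton hinv Uy
  let _ := acton hinv' Uy'
  let _ := algW D hWV
  let _ := algW D' hW'V
  have := smulComm hρ' hinv' Uy' hW'V
  have := smulComm hρ hinv Uy hWV
  obtain ⟨b, h, v, hc, hxh, hbad⟩ := exists_cut hρ hinv hW hV hWV (hWc hx')
  have hAj := fun j => hA (b.U j) (b.hU j) (b.hUV j)
  let b' : Box f' d V' := b.pullBox f' a hV' fun j => (hAj j).1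
  -- the map of chart rings
  let β : Γ(S, V) ⟶ Γ(S', V') := g.appLE V V' hVV
  let _ : Algebra Γ(S, V) Γ(S', V') := β.hom.toAlgebra
  let _ : Algebra Γ(S, V) b'.A := ((algebraMap Γ(S', V') b'.A).comp β.hom).toAlgebra
  have : IsScalarTower Γ(S, V) Γ(S', V') b'.A := .of_algebraMap_eq' rfl
  let α : b.A →ₐ[Γ(S, V)] b'.A :=
    { toRingHom := Pi.ringHom fun j => (a.appLE (b.U j) (b'.U j) inf_le_left).hom.comp (Pi.evalRingHom _ j)
      commutes' := fun r => funext fun j => by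
        show a.appLE (b.U j) (b'.U j) inf_le_left (f.appLE V (b.U j) (b.hUV j) r) =
          f'.appLE V' (b'.U j) (b'.hUV j) (g.appLE V V' hVV r)
        rw [← CommRingCat.comp_apply, ← CommRingCat.comp_apply, Scheme.Hom.appLE_comp_appLE,
          Scheme.Hom.appLE_comp_appLE]
        simp only [haf] }
  have hα1 : ∀ j (x : Γ(X, b.U j)),
      α (Pi.single j x) = Pi.single j (a.appLE (b.U j) (b'.U j) inf_le_left x) := fun j x => by
    refine funext fun k : b.J => ?_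
    show a.appLE (b.U k) (b'.U k) inf_le_left ((Pi.single j x : b.A) k) = _
    by_cases hk : k = j
    · subst hk
      rw [Pi.single_eq_same]
      exact (Pi.single_eq_same (M := fun k : b'.J => Γ(X', b'.U k)) _ _).symm
    · rw [Pi.single_eq_of_ne hk, map_zero]
      exact (Pi.single_eq_of_ne (M := fun k : b'.J => Γ(X', b'.U k)) hk _).symm
  have := b.fin
  have hαspan : Submodule.span Γ(S', V') (Set.range α) = ⊤ := by
    have : Fintype b'.J := Fintype.ofFinite b.J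
    refine eq_top_iff.2 fun y _ => ?_
    rw [← Finset.univ_sum_single y]
    refine Submodule.sum_mem _ fun j _ => ?_
    let _ : Algebra Γ(S', V') Γ(X', a ⁻¹ᵁ b.U j ⊓ f' ⁻¹ᵁ V') := b'.algU j
    have hm : y j ∈ Submodule.span Γ(S', V')
        (Set.range (a.appLE (b.U j) (a ⁻¹ᵁ b.U j ⊓ f' ⁻¹ᵁ V') inf_le_left)) :=
      Eq.ge (hAj j).2 Submodule.mem_top
    have key := Submodule.mem_map_of_mem (f := LinearMap.single Γ(S', V') (fun k => Γ(X', b'.U k)) j) hm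
    refine Submodule.span_mono ?_ ((Submodule.map_span _ _).le key)
    rintro _ ⟨_, ⟨x, rfl⟩, rfl⟩
    exact ⟨Pi.single j x, hα1 j x⟩
  have := b'.flat_A
  let τ := tauT d Γ(S', V') α
  have hsingle : ∀ i (x : b.A),
      τ (PiTensorProduct.singleAlgHom (R := Γ(S, V)) (A := fun _ : Fin d => b.A) i x) =
        PiTensorProduct.singleAlgHom (R := Γ(S', V')) (A := fun _ : Fin d => b'.A) i (α x) := fun i x => by
    refine (tauT_tprod d α _).trans (congrArg (PiTensorProduct.tprod _) (funext fun k => ?_))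
    simp only [MonoidHom.mulSingle_apply, Pi.mulSingle_apply, apply_ite α, map_one]
  have hτe : τ b.e = b'.e := by
    refine (tauT_tprod d α _).trans (congrArg (PiTensorProduct.tprod _) (funext fun i => ?_))
    rw [hα1, map_one]
    rfl
  -- naturality of the maps to sections
  have hψ : ∀ {O : P.Opens} {O' : P'.Opens} (hO : O ≤ b.B D) (hO' : O' ≤ b'.B D') (e : O' ≤ c ⁻¹ᵁ O)
      (t : Tpow Γ(S, V) b.A d), c.appLE O O' e (b.ψ D hO t) = b'.ψ D' hO' (τ t) := by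
    intro O O' hO hO' e t
    letI := b.algO D hO
    letI := b'.algO D' hO'
    refine RingHom.congr_fun (f := (c.appLE O O' e).hom.comp (b.ψ D hO).toRingHom)
      (g := (b'.ψ D' hO').toRingHom.comp τ.toRingHom) ?_ t
    refine ringHom_ext_tpow (fun r => ?_) fun i x => ?_
    · show c.appLE O O' e (b.ψ D hO (algebraMap _ _ r)) = b'.ψ D' hO' (τ (algebraMap _ _ r))
      rw [AlgHom.commutes τ, IsScalarTower.algebraMap_apply Γ(S, V) Γ(S', V') (Tpow Γ(S', V') b'.A d),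
        Box.ψ_algebraMap, Box.ψ_algebraMap]
      show _ = D'.base.appLE V' O' _ (g.appLE V V' hVV r)
      rw [← CommRingCat.comp_apply, ← CommRingCat.comp_apply, Scheme.Hom.appLE_comp_appLE,
        Scheme.Hom.appLE_comp_appLE]
      simp only [hcb]
    · show c.appLE O O' e
          (b.ψ D hO (PiTensorProduct.singleAlgHom (R := Γ(S, V)) (A := fun _ : Fin d => b.A) i x)) =
        b'.ψ D' hO' (τ (PiTensorProduct.singleAlgHom (R := Γ(S, V)) (A := fun _ : Fin d => b.A) i x))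
      rw [hsingle, Box.ψ_single, Box.ψ_single]
      show _ = (D'.π i).appLE _ O' _ (a.appLE (b.U (b.φ i)) _ inf_le_left (x (b.φ i)))
      rw [← CommRingCat.comp_apply, ← CommRingCat.comp_apply, Scheme.Hom.appLE_comp_appLE,
        Scheme.Hom.appLE_comp_appLE]
      simp only [hcπ]
  -- the image cut
  let φ : Γ(P, p ⁻¹ᵁ Uy) →+* Γ(P', p' ⁻¹ᵁ Uy') := (c.appLE _ _ hWc).hom
  have hφ : ∀ (σ : Gd.{u} d) (z : Γ(P, p ⁻¹ᵁ Uy)), φ (σ • z) = σ • φ z := fun σ z => by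
    show c.appLE _ _ hWc (IsQuot25.actHom hinv Uy σ⁻¹ z) = IsQuot25.actHom hinv' Uy' σ⁻¹ (c.appLE _ _ hWc z)
    simp only [IsQuot25.actHom, ← CommRingCat.comp_apply, Scheme.Hom.appLE_comp_appLE,
      c_comm hρ hρ' hcb hcπ]
  have hBB : b'.B D' ≤ c ⁻¹ᵁ b.B D := fun z hz => by
    rw [Box.mem_B] at hz
    refine (b.mem_B D).2 ⟨?_, fun i => ?_⟩
    · rw [← Scheme.Hom.comp_apply, hcb]
      exact hVV hz.1
    · rw [← Scheme.Hom.comp_apply, hcπ]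
      exact (hz.2 i).1
  have hdom : P'.basicOpen (φ h) = p' ⁻¹ᵁ Uy' ⊓ c ⁻¹ᵁ P.basicOpen h := basicOpen_appLE _ _ _
  have hle' : P'.basicOpen (φ h) ≤ b'.B D' := fun z hz => by
    rw [hdom] at hz
    have hzB := (b.mem_B D).1 (hc.le hz.2)
    refine (b'.mem_B D').2 ⟨hW'V hz.1, fun i => ⟨?_, ?_⟩⟩
    · show a (D'.π i z) ∈ b.U (b.φ i)
      rw [← Scheme.Hom.comp_apply, ← hcπ]
      exact hzB.2 i
    · show f' (D'.π i z) ∈ V'
      rw [← Scheme.Hom.comp_apply, D'.w]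
      exact hW'V hz.1
  have hc' : IsCut (D := D') hinv' Uy' b' (φ h) (τ v) := by
    refine ⟨fun τ₁ hτ₁ => ?_, hτe ▸ map_dvd τ hc.dvd, fun τ₁ hτ₁ => ?_, hle', ?_⟩
    · exact (hφ τ₁ h).symm.trans (congrArg φ (hc.h_fix τ₁ hτ₁))
    · exact (tauT_smul d α τ₁ v).symm.trans (congrArg τ (hc.v_fix τ₁ hτ₁))
    · rw [← hψ le_rfl le_rfl hBB v, basicOpen_appLE c hBB, ← hc.eq]
      refine le_antisymm (le_inf hle' (hdom.le.trans inf_le_right)) (fun z hz => ?_)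
      rw [hdom]
      refine ⟨?_, hz.2⟩
      rw [hWeq]
      exact ⟨P.basicOpen_le h hz.2, ((b'.mem_B D').1 hz.1).1⟩
  let _ := b.algO D hc.le
  let _ := b'.algO D' hc'.le
  let P0 : Ideal Γ(P', p' ⁻¹ᵁ Uy') :=
    (IsLocalRing.maximalIdeal (P'.presheaf.stalk x')).comap (P'.presheaf.germ _ x' hx').hom
  have hP0 : ∀ s, s ∈ P0 ↔ x' ∉ P'.basicOpen s := fun s => by
    rw [Scheme.mem_basicOpen _ _ x' hx']
    rfl
  have hx'h : x' ∈ P'.basicOpen (φ h) := by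
    rw [hdom]
    exact ⟨hx', hxh⟩
  obtain ⟨s, hs, z, hz, hsP, hsw⟩ := exists_local_of_models (hc.model hρ hW hWV) (hc'.model hρ' hW' hW'V)
    rfl φ hφ τ.toRingHom
    (c.appLE (P.basicOpen h) (P'.basicOpen (φ h)) (hdom.le.trans inf_le_right)).hom
    (fun t => hψ hc.le hc'.le _ t)
    (fun z => by
      show c.appLE _ _ _ (P.presheaf.map _ z) = P'.presheaf.map _ (c.appLE _ _ hWc z)
      rw [← CommRingCat.comp_apply, ← CommRingCat.comp_apply, Scheme.Hom.map_appLE, Scheme.Hom.appLE_map])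
    rfl (fun σ t => tauT_smul d α σ t) rfl (fun t ht => mem_span_tauT d α hαspan ht)
    P0 (fun hh => (hP0 _).1 hh hx'h)
    (fun σ hσ => (hP0 _).2 fun hh => hbad σ hσ (by
      have hh' : x' ∈ P'.basicOpen (c.appLE _ _ hWc (σ • h)) := hh
      rw [basicOpen_appLE] at hh'
      exact hh'.2))
    (w := w) (fun σ => hw σ⁻¹)
  have hset : {z : Γ(P, p ⁻¹ᵁ Uy) | ∀ σ : Gd.{u} d, σ • z = z} =
      {z | ∀ σ : Gd.{u} d, IsQuot25.actHom hinv Uy σ z = z} := by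
    ext z
    exact ⟨fun h' σ => by
      have := h' σ⁻¹
      change IsQuot25.actHom hinv Uy σ⁻¹⁻¹ z = z at this
      rwa [inv_inv] at this, fun h' σ => h' σ⁻¹⟩
  rw [hset] at hs hz
  exact ⟨s, hs, z, hz, not_not.1 fun hh => hsP ((hP0 s).2 hh), hsw⟩

set_option maxHeartbeats 1000000 in
/-- Invariants of a fibre power of a flat morphism are flat. -/
theorem flat_invariants [Flat f] (hρ : D.IsAct ρ) (hinv : ∀ σ, (ρ σ).hom ≫ p = p) {Uy : Y.Opens}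
    (hW : IsAffineOpen (p ⁻¹ᵁ Uy)) {V : S.Opens} (hV : IsAffineOpen V)
    (hWV : p ⁻¹ᵁ Uy ≤ D.base ⁻¹ᵁ V) :
    letI := acton hinv Uy; letI := algW D hWV; haveI := smulComm hρ hinv Uy hWV
    Module.Flat Γ(S, V) (invSub Γ(S, V) (Gd.{u} d) Γ(P, p ⁻¹ᵁ Uy)) := by
  let _ := acton hinv Uy
  let _ := algW D hWV
  have := smulComm hρ hinv Uy hWV
  refine flat_invSub fun Q hQ l fc xc hxc hsum => ?_
  let x : P := hW.fromSpec ⟨Q, hQ⟩
  have hx : x ∈ p ⁻¹ᵁ Uy := hW.range_fromSpec.le ⟨_, rfl⟩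
  have hmem : ∀ s, x ∈ P.basicOpen s ↔ s ∉ Q := fun s => by
    show (⟨Q, hQ⟩ : PrimeSpectrum Γ(P, p ⁻¹ᵁ Uy)) ∈ hW.fromSpec ⁻¹ᵁ P.basicOpen s ↔ _
    rw [hW.fromSpec_preimage_basicOpen]
    exact Iff.rfl
  obtain ⟨b, h, v, hc, hxh, hbad⟩ := exists_cut hρ hinv hW hV hWV hx
  let _ := b.algO D hc.le
  have := b.flat_A
  have := flat_invSub_tpow Γ(S, V) b.A d
  exact exists_local_trivial (hc.model hρ hW hWV) Q ((hmem h).1 hxh)
    (fun σ hσ => not_not.1 fun hh => hbad σ hσ ((hmem _).2 hh)) hxc hsum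

end Groth.Agent.SymFlat14
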