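import Mathlib.RingTheory.Flat.EquationalCriterion
import Mathlib.RingTheory.Invariant.Basic
import Mathlib.GroupTheory.Coset.Basic
import Mathlib.GroupTheory.QuotientGroup.Basic

/-!
# Invariants of a finite group, computed on a subgroup and a localisation

Algebraic core of the comparison theorems for symmetric products: the trace from a subgroup `H` turns
statements about `H`-invariants of a localisation into local statements about `G`-invariants.
-/

set_option autoImplicit false
universe u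

namespace Groth.Agent.SymFlat14

section Tr

variable {G : Type u} [Group G] [Finite G] {C : Type u} [CommRing C] [MulSemiringAction G C]
  (H : Subgroup G)

/-- Sum over left cosets of translates. -/
noncomputable def tr (c : C) : C :=
  letI := Fintype.ofFinite (G ⧸ H)
  ∑ q : G ⧸ H, q.out • c

theorem tr_add (a b : C) : tr H (a + b) = tr H a + tr H b := by
  simp only [tr, smul_add, Finset.sum_add_distrib]

theorem tr_zero : tr H (0 : C) = 0 := by
  simp only [tr, smul_zero, Finset.sum_const_zero]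

variable {H}

omit [Finite G] in
theorem smul_eq_out_smul {c : C} (hc : ∀ τ ∈ H, τ • c = c) (g : G) :
    (QuotientGroup.mk g : G ⧸ H).out • c = g • c := by
  obtain ⟨⟨τ, hτ⟩, he⟩ := QuotientGroup.mk_out_eq_mul H g
  rw [he, mul_smul, hc τ hτ]

theorem smul_tr {c : C} (hc : ∀ τ ∈ H, τ • c = c) (g : G) : g • tr H c = tr H c := by
  let := Fintype.ofFinite (G ⧸ H)
  show g • ∑ q : G ⧸ H, q.out • c = ∑ q : G ⧸ H, q.out • c
  rw [Finset.smul_sum]
  refine Fintype.sum_equiv (MulAction.toPerm g) _ _ fun q => ?_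
  rw [← mul_smul, ← smul_eq_out_smul hc (g * q.out)]
  congr 2
  obtain ⟨x, rfl⟩ := QuotientGroup.mk_surjective q
  simp only [MulAction.toPerm_apply]
  conv_rhs => rw [← QuotientGroup.out_eq' (QuotientGroup.mk x : G ⧸ H)]
  rfl

theorem tr_mul_of_fixed {a : C} (ha : ∀ g : G, g • a = a) (c : C) : tr H (a * c) = a * tr H c := by
  simp only [tr, smul_mul', ha, Finset.mul_sum]

theorem tr_map {C' : Type u} [CommRing C'] [MulSemiringAction G C'] (φ : C →+* C')
    (hφ : ∀ (g : G) (c : C), φ (g • c) = g • φ c) (c : C) : φ (tr H c) = tr H (φ c) := by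
  simp only [tr, map_sum, hφ]

theorem tr_smul {R : Type u} [CommRing R] [Algebra R C] [SMulCommClass G R C] (r : R) (c : C) :
    tr H (r • c) = r • tr H c := by
  simp only [tr, smul_comm _ r, Finset.smul_sum]

/-- Modulo an ideal containing the translates outside `H`, the trace is the element. -/
theorem tr_sub_mem {c : C} (hc : ∀ τ ∈ H, τ • c = c) (I : Ideal C)
    (hI : ∀ σ : G, σ ∉ H → σ • c ∈ I) : tr H c - c ∈ I := by
  classical
  let := Fintype.ofFinite (G ⧸ H)
  have h1 : (QuotientGroup.mk (1 : G) : G ⧸ H).out • c = c := by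
    rw [smul_eq_out_smul hc, one_smul]
  show (∑ q : G ⧸ H, q.out • c) - c ∈ I
  rw [← Finset.add_sum_erase _ _ (Finset.mem_univ (QuotientGroup.mk (1 : G) : G ⧸ H)), h1,
    add_sub_cancel_left]
  refine I.sum_mem fun q hq => hI _ fun hq' => (Finset.mem_erase.1 hq).1 ?_
  rw [← QuotientGroup.out_eq' q]
  exact (QuotientGroup.eq.2 (by simpa using H.inv_mem hq'))

/-- If `c` kills its translates outside `H`, it kills the difference with the trace. -/
theorem mul_tr {c d : C} (hc : ∀ τ ∈ H, τ • c = c) (hd : ∀ σ : G, σ ∉ H → d * σ • c = 0) :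
    d * tr H c = d * c := by
  have := tr_sub_mem hc (LinearMap.ker (LinearMap.mulLeft C d) : Ideal C) fun σ hσ => hd σ hσ
  rw [LinearMap.mem_ker, LinearMap.mulLeft_apply, mul_sub, sub_eq_zero] at this
  exact this

/-- Invariants can be computed near a prime from the invariants of a subgroup. -/
theorem exists_local_eq {R' : Type u} [CommRing R'] {C' : Type u} [CommRing C'] [Algebra R' C']
    [MulSemiringAction G C'] [SMulCommClass G R' C'] (φ : C →+* C')
    (hφ : ∀ (g : G) (c : C), φ (g • c) = g • φ c) (P : Ideal C') [P.IsPrime] (H : Subgroup G)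
    {h : C} (hH : ∀ τ ∈ H, τ • h = h) (h1 : φ h ∉ P) (h2 : ∀ σ : G, σ ∉ H → φ (σ • h) ∈ P)
    {w : C'} (hw : ∀ g : G, g • w = w) (N : ℕ)
    (hN : φ h ^ N * w ∈ Submodule.span R' (φ '' {c | ∀ τ ∈ H, τ • c = c})) :
    ∃ s ∈ Submodule.span R' (φ '' {c | ∀ g : G, g • c = c}),
      ∃ a ∈ Submodule.span R' (φ '' {c | ∀ g : G, g • c = c}), s ∉ P ∧ s * w = a := by
  set S := Submodule.span R' (φ '' {c | ∀ τ ∈ H, τ • c = c})
  have hN' : φ h ^ (N + 1) * w ∈ S := by
    have : ∀ x ∈ S, φ h * x ∈ S := by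
      intro x hx
      induction hx using Submodule.span_induction with
      | mem x hx =>
        obtain ⟨c, hc, rfl⟩ := hx
        exact Submodule.subset_span ⟨h * c, fun τ hτ => by rw [smul_mul', hH τ hτ, hc τ hτ],
          map_mul φ _ _⟩
      | zero => rw [mul_zero]; exact zero_mem _
      | add x y _ _ hx hy => rw [mul_add]; exact add_mem hx hy
      | smul r x _ hx => rw [mul_smul_comm]; exact Submodule.smul_mem _ _ hx
    rw [pow_succ', mul_assoc]
    exact this _ hN
  have hfix : ∀ τ ∈ H, τ • h ^ (N + 1) = h ^ (N + 1) := fun τ hτ => by rw [smul_pow', hH τ hτ]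
  refine ⟨φ (tr H (h ^ (N + 1))), Submodule.subset_span ⟨_, fun g => smul_tr hfix g, rfl⟩,
    tr H (φ h ^ (N + 1) * w), ?_, ?_, ?_⟩
  · have : ∀ x ∈ S, tr H x ∈ Submodule.span R' (φ '' {c | ∀ g : G, g • c = c}) := by
      intro x hx
      induction hx using Submodule.span_induction with
      | mem x hx =>
        obtain ⟨c, hc, rfl⟩ := hx
        exact Submodule.subset_span ⟨tr H c, fun g => smul_tr hc g, tr_map φ hφ c⟩
      | zero => rw [tr_zero]; exact zero_mem _
      | add x y _ _ hx hy => rw [tr_add]; exact add_mem hx hy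
      | smul r x _ hx => rw [tr_smul]; exact Submodule.smul_mem _ _ hx
    exact this _ hN'
  · intro hs
    have hd := tr_sub_mem hfix (P.comap φ) fun σ hσ => by
      rw [Ideal.mem_comap, smul_pow', map_pow]
      exact P.pow_mem_of_mem (h2 σ hσ) _ N.succ_pos
    rw [Ideal.mem_comap, map_sub, sub_mem_comm_iff, P.sub_mem_iff_left hs, map_pow] at hd
    exact h1 ((inferInstance : P.IsPrime).mem_of_pow_mem _ hd)
  · rw [tr_map φ hφ, map_pow, mul_comm (φ h ^ (N + 1)) w, tr_mul_of_fixed hw, mul_comm]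

end Tr

/-- A local model at a subgroup: `L` is a localisation of both `T` and `C`, compatibly with `H`. -/
structure Model (R G C T L : Type u) [CommRing R] [Group G] [CommRing C] [CommRing T] [CommRing L]
    [Algebra R C] [Algebra R T] [Algebra R L] [MulSemiringAction G C] [MulSemiringAction G T] where
  H : Subgroup G
  ψ : T →ₐ[R] L
  res : C →ₐ[R] L
  act : G → L →+* L
  act_ψ : ∀ τ ∈ H, ∀ t, act τ (ψ t) = ψ (τ • t)
  act_res : ∀ τ ∈ H, ∀ c, act τ (res c) = res (τ • c)
  v : T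
  v_fix : ∀ τ ∈ H, τ • v = v
  v_orth : ∀ σ, σ ∉ H → v * σ • v = 0
  ψ_unit : IsUnit (ψ v)
  ψ_surj : ∀ z : L, ∃ (t : T) (n : ℕ), z * ψ v ^ n = ψ t
  ψ_ker : ∀ t : T, ψ t = 0 → ∃ n : ℕ, v ^ n * t = 0
  h : C
  h_fix : ∀ τ ∈ H, τ • h = h
  res_unit : IsUnit (res h)
  res_surj : ∀ z : L, ∃ (c : C) (n : ℕ), z * res h ^ n = res c
  res_ker : ∀ c : C, res c = 0 → ∃ n : ℕ, h ^ n * c = 0

namespace Model

variable {R G C T L : Type u} [CommRing R] [Group G] [CommRing C] [CommRing T] [CommRing L]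
  [Algebra R C] [Algebra R T] [Algebra R L] [MulSemiringAction G C] [MulSemiringAction G T]
  (M : Model R G C T L) [Finite G]

/-- The invariant element inverted by the model. -/
noncomputable def vt : T := tr M.H M.v

theorem vt_fix (g : G) : g • M.vt = M.vt := smul_tr M.v_fix g

theorem ψ_vt : M.ψ M.vt = M.ψ M.v := by
  refine M.ψ_unit.mul_left_cancel ?_
  rw [← map_mul, ← map_mul, vt, mul_tr M.v_fix fun σ hσ => M.v_orth σ hσ]

theorem isUnit_ψ_vt : IsUnit (M.ψ M.vt) := M.ψ_vt ▸ M.ψ_unit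

theorem exists_kill {t : T} (ht : ∀ g : G, g • t = t) (h0 : M.ψ t = 0) : ∃ n : ℕ, M.vt ^ n * t = 0 := by
  obtain ⟨n, hn⟩ := M.ψ_ker t h0
  refine ⟨n + 1, ?_⟩
  have hp : ∀ k : ℕ, M.v * M.vt ^ k = M.v ^ (k + 1) := by
    intro k
    induction k with
    | zero => simp
    | succ k ih =>
      rw [pow_succ, ← mul_assoc, ih, pow_succ, mul_assoc, vt,
        mul_tr M.v_fix fun σ hσ => M.v_orth σ hσ, pow_succ (M.v) (k + 1), pow_succ M.v k, mul_assoc]
  have : tr M.H (M.v * (M.vt ^ n * t)) = 0 := by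
    rw [← mul_assoc, hp, pow_succ', mul_assoc, hn, mul_zero, tr_zero]
  rw [mul_comm M.v, tr_mul_of_fixed (fun g => by rw [smul_mul', smul_pow', M.vt_fix, ht]) M.v] at this
  rw [pow_succ, mul_right_comm]
  exact this

/-- Invariant elements of the localisation come from global invariants of the chart. -/
theorem exists_ψ {z : L} (hz : ∀ τ ∈ M.H, M.act τ z = z) :
    ∃ (t : T) (n : ℕ), (∀ g : G, g • t = t) ∧ z * M.ψ M.vt ^ n = M.ψ t := by
  classical
  cases nonempty_fintype G
  obtain ⟨t₀, n, hn⟩ := M.ψ_surj z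
  have hk : ∀ τ : M.H, ∃ k, M.v ^ k * ((τ : G) • t₀ - t₀) = 0 := fun τ => M.ψ_ker _ (by
    rw [map_sub, ← M.act_ψ τ τ.2, ← hn, map_mul, map_pow, M.act_ψ τ τ.2, M.v_fix τ τ.2, hz τ τ.2,
      sub_self])
  choose k hk using hk
  let m := Finset.univ.sup k
  have hm : ∀ τ ∈ M.H, τ • (M.v ^ (m + 1) * t₀) = M.v ^ (m + 1) * t₀ := fun τ hτ => by
    obtain ⟨j, hj⟩ := Nat.exists_eq_add_of_le (Finset.le_sup (f := k) (Finset.mem_univ ⟨τ, hτ⟩))
    rw [smul_mul', smul_pow', M.v_fix τ hτ, ← sub_eq_zero, ← mul_sub,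
      show m + 1 = k ⟨τ, hτ⟩ + (j + 1) from by rw [← add_assoc, ← hj],
      pow_add, mul_right_comm, hk ⟨τ, hτ⟩, zero_mul]
  refine ⟨tr M.H (M.v ^ (m + 1) * t₀), n + (m + 1), fun g => smul_tr hm g, ?_⟩
  have e := congrArg M.ψ (mul_tr hm (d := M.v) fun σ hσ => by
    rw [smul_mul', smul_pow', pow_succ', ← mul_assoc, ← mul_assoc, M.v_orth σ hσ, zero_mul, zero_mul])
  rw [map_mul, map_mul] at e
  rw [M.ψ_vt, pow_add, ← mul_assoc, hn, M.ψ_unit.mul_left_cancel e, map_mul, map_pow, mul_comm]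

/-- Invariant elements of the localisation come from invariants of `H`. -/
theorem exists_res {z : L} (hz : ∀ τ ∈ M.H, M.act τ z = z) :
    ∃ (c : C) (n : ℕ), (∀ τ ∈ M.H, τ • c = c) ∧ z * M.res M.h ^ n = M.res c := by
  classical
  cases nonempty_fintype G
  obtain ⟨c₀, n, hn⟩ := M.res_surj z
  have hk : ∀ τ : M.H, ∃ k, M.h ^ k * ((τ : G) • c₀ - c₀) = 0 := fun τ => M.res_ker _ (by
    rw [map_sub, ← M.act_res τ τ.2, ← hn, map_mul, map_pow, M.act_res τ τ.2, M.h_fix τ τ.2, hz τ τ.2,
      sub_self])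
  choose k hk using hk
  let m := Finset.univ.sup k
  refine ⟨M.h ^ m * c₀, n + m, fun τ hτ => ?_, ?_⟩
  · obtain ⟨j, hj⟩ := Nat.exists_eq_add_of_le (Finset.le_sup (f := k) (Finset.mem_univ ⟨τ, hτ⟩))
    rw [smul_mul', smul_pow', M.h_fix τ hτ, ← sub_eq_zero, ← mul_sub, show m = k ⟨τ, hτ⟩ + j from hj,
      pow_add, mul_right_comm, hk ⟨τ, hτ⟩, zero_mul]
  · rw [map_mul, map_pow, pow_add, ← mul_assoc, hn, mul_comm]

/-- Quotients of invariant tensors, cleared by a power of `h`. -/
theorem exists_clear {t : T} (ht : ∀ g : G, g • t = t) (n : ℕ) :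
    ∃ (c : C) (k : ℕ), (∀ τ ∈ M.H, τ • c = c) ∧
      M.res c * M.ψ M.vt ^ n = M.ψ t * M.res M.h ^ k := by
  obtain ⟨u, hu⟩ := M.isUnit_ψ_vt
  have hz : ∀ τ ∈ M.H, M.act τ (M.ψ t * ↑(u⁻¹ ^ n)) = M.ψ t * ↑(u⁻¹ ^ n) := by
    intro τ hτ
    have h1 : M.act τ ↑(u ^ n) = ↑(u ^ n) := by
      rw [Units.val_pow_eq_pow_val, hu, map_pow, M.act_ψ τ hτ, M.vt_fix]
    rw [map_mul, M.act_ψ τ hτ, ht]
    congr 1
    refine (u ^ n).isUnit.mul_left_cancel ?_
    nth_rw 1 [← h1]
    rw [← map_mul, inv_pow, Units.mul_inv, map_one]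
  obtain ⟨c, k, hc, hk⟩ := M.exists_res hz
  refine ⟨c, k, hc, ?_⟩
  rw [← hk, ← hu, ← Units.val_pow_eq_pow_val, mul_right_comm (M.ψ t * _), mul_assoc (M.ψ t),
    inv_pow, Units.inv_mul, mul_one]

end Model

section Pair

variable {R R' G C C' T T' L L' : Type u} [CommRing R] [CommRing R'] [Group G] [Finite G]
  [CommRing C] [CommRing C'] [CommRing T] [CommRing T'] [CommRing L] [CommRing L']
  [Algebra R C] [Algebra R T] [Algebra R L] [Algebra R' C'] [Algebra R' T'] [Algebra R' L']
  [MulSemiringAction G C] [MulSemiringAction G T] [MulSemiringAction G C'] [MulSemiringAction G T']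
  [SMulCommClass G R' C']

/-- Comparison of a pair of models: invariants are locally generated by the image. -/
theorem exists_local_of_models (M : Model R G C T L) (M' : Model R' G C' T' L') (hH : M'.H = M.H)
    (φ : C →+* C') (hφ : ∀ (g : G) (c : C), φ (g • c) = g • φ c)
    (τT : T →+* T') (φL : L →+* L') (hψ : ∀ t, φL (M.ψ t) = M'.ψ (τT t))
    (hres : ∀ c, φL (M.res c) = M'.res (φ c)) (hv : M'.v = τT M.v)
    (hτ : ∀ (g : G) (t : T), τT (g • t) = g • τT t) (hh : M'.h = φ M.h)
    (hspan : ∀ t : T', (∀ g : G, g • t = t) →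
      t ∈ Submodule.span R' (τT '' {t | ∀ g : G, g • t = t}))
    (P : Ideal C') [P.IsPrime] (h1 : φ M.h ∉ P) (h2 : ∀ σ : G, σ ∉ M.H → φ (σ • M.h) ∈ P)
    {w : C'} (hw : ∀ g : G, g • w = w) :
    ∃ s ∈ Submodule.span R' (φ '' {c | ∀ g : G, g • c = c}),
      ∃ a ∈ Submodule.span R' (φ '' {c | ∀ g : G, g • c = c}), s ∉ P ∧ s * w = a := by
  set S := Submodule.span R' (φ '' {c | ∀ τ ∈ M.H, τ • c = c}) with hS
  have hmul : ∀ (k : ℕ) (x : C'), x ∈ S → φ M.h ^ k * x ∈ S := by
    intro k x hx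
    induction hx using Submodule.span_induction with
    | mem x hx =>
      obtain ⟨c, hc, rfl⟩ := hx
      exact Submodule.subset_span ⟨M.h ^ k * c,
        fun τ hτ' => by rw [smul_mul', smul_pow', M.h_fix τ hτ', hc τ hτ'], by rw [map_mul, map_pow]⟩
    | zero => rw [mul_zero]; exact zero_mem _
    | add x y _ _ hx hy => rw [mul_add]; exact add_mem hx hy
    | smul r x _ hx => rw [mul_smul_comm]; exact Submodule.smul_mem _ _ hx
  have hvt : τT M.vt = M'.vt := by
    rw [Model.vt, Model.vt, hH, hv, tr_map τT hτ]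
  obtain ⟨t', n, ht', hn⟩ := M'.exists_ψ (z := M'.res w) fun τ hτ' => by rw [M'.act_res τ hτ', hw]
  have key : ∀ x ∈ Submodule.span R' (τT '' {t | ∀ g : G, g • t = t}),
      ∃ (a : C') (k : ℕ), a ∈ S ∧ M'.res a * M'.ψ M'.vt ^ n = M'.ψ x * M'.res M'.h ^ k := by
    intro x hx
    induction hx using Submodule.span_induction with
    | mem x hx =>
      obtain ⟨t, ht, rfl⟩ := hx
      obtain ⟨c, k, hc, hk⟩ := M.exists_clear ht n
      refine ⟨φ c, k, Submodule.subset_span ⟨c, hc, rfl⟩, ?_⟩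
      have := congrArg φL hk
      simpa only [map_mul, map_pow, hψ, hres, hvt, hh] using this
    | zero => exact ⟨0, 0, zero_mem _, by simp⟩
    | add x y _ _ hx hy =>
      obtain ⟨a, k, ha, ea⟩ := hx
      obtain ⟨b, l, hb, eb⟩ := hy
      refine ⟨φ M.h ^ l * a + φ M.h ^ k * b, k + l, add_mem (hmul l a ha) (hmul k b hb), ?_⟩
      simp only [map_add, map_mul, map_pow, ← hh, add_mul]
      rw [mul_assoc, ea, mul_assoc (M'.res M'.h ^ k), eb, pow_add]
      ring
    | smul r x _ hx =>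
      obtain ⟨a, k, ha, ea⟩ := hx
      exact ⟨r • a, k, Submodule.smul_mem _ _ ha, by rw [map_smul, map_smul, smul_mul_assoc, ea, smul_mul_assoc]⟩
  obtain ⟨a, k, ha, hak⟩ := key t' (hspan t' ht')
  rw [← hn] at hak
  have h0 : M'.res (M'.h ^ k * w - a) = 0 := by
    refine (M'.isUnit_ψ_vt.pow n).mul_left_cancel ?_
    rw [mul_zero, map_sub, map_mul, map_pow, mul_sub, mul_comm (M'.ψ M'.vt ^ n) (M'.res a), hak]
    ring
  obtain ⟨m, hm⟩ := M'.res_ker _ h0
  refine exists_local_eq φ hφ P M.H M.h_fix h1 h2 hw (m + k) ?_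
  have : φ M.h ^ (m + k) * w = φ M.h ^ m * a := by
    rw [hh, mul_sub, sub_eq_zero, ← mul_assoc, ← pow_add] at hm
    exact hm
  rw [this]
  exact hmul m a ha

end Pair

section FlatInv

variable {R G C : Type u} [CommRing R] [Group G] [Finite G] [CommRing C] [Algebra R C]
  [MulSemiringAction G C] [SMulCommClass G R C]

variable (R G C) in
/-- The invariants, as a submodule. -/
def invSub : Submodule R C where
  carrier := {c | ∀ g : G, g • c = c}
  add_mem' ha hb g := by rw [smul_add, ha g, hb g]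
  zero_mem' g := smul_zero g
  smul_mem' r c hc g := by rw [smul_comm, hc g]

omit [Finite G] in
theorem mem_invSub {c : C} : c ∈ invSub R G C ↔ ∀ g : G, g • c = c := Iff.rfl

/-- Relations among invariants are trivial near a prime having a model with flat chart invariants. -/
theorem exists_local_trivial {T L : Type u} [CommRing T] [CommRing L] [Algebra R T] [Algebra R L]
    [MulSemiringAction G T] [SMulCommClass G R T] (M : Model R G C T L)
    [Module.Flat R (invSub R G T)] (P : Ideal C) [P.IsPrime] (h1 : M.h ∉ P)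
    (h2 : ∀ σ : G, σ ∉ M.H → σ • M.h ∈ P)
    {l : ℕ} {f : Fin l → R} {x : Fin l → C} (hx : ∀ i, ∀ g : G, g • x i = x i)
    (h : ∑ i, f i • x i = 0) :
    ∃ s ∈ invSub R G C, s ∉ P ∧
      ∃ (κ : ℕ) (a : Fin l → Fin κ → R) (y : Fin κ → C), (∀ j, y j ∈ invSub R G C) ∧
        (∀ i, s * x i = ∑ j, a i j • y j) ∧ ∀ j, ∑ i, f i * a i j = 0 := by
  classical
  choose t n ht hn using fun i => M.exists_ψ (z := M.res (x i)) fun τ hτ => by rw [M.act_res τ hτ, hx i]
  let N := Finset.univ.sup n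
  let t' : Fin l → T := fun i => M.vt ^ (N - n i) * t i
  have ht' : ∀ i, ∀ g : G, g • t' i = t' i := fun i g => by
    simp only [t', smul_mul', smul_pow', M.vt_fix, ht i]
  have hn' : ∀ i, M.res (x i) * M.ψ M.vt ^ N = M.ψ (t' i) := fun i => by
    have e : n i + (N - n i) = N := Nat.add_sub_cancel' (Finset.le_sup (f := n) (Finset.mem_univ i))
    conv_lhs => rw [← e, pow_add, ← mul_assoc, hn i]
    rw [map_mul, map_pow, mul_comm]
  obtain ⟨m, hm⟩ := M.exists_kill (t := ∑ i, f i • t' i)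
    (fun g => by rw [Finset.smul_sum]; exact Finset.sum_congr rfl fun i _ => by rw [smul_comm, ht'])
    (by
      have := congrArg (fun c => M.res c * M.ψ M.vt ^ N) h
      simpa only [map_sum, map_smul, Finset.sum_mul, smul_mul_assoc, hn', map_zero, zero_mul] using this)
  let u : Fin l → invSub R G T := fun i => ⟨M.vt ^ m * t' i, fun g => by
    rw [smul_mul', smul_pow', M.vt_fix, ht']⟩
  have hu : ∑ i, f i • u i = 0 := Subtype.ext (by
    simpa [u, Finset.mul_sum, mul_smul_comm] using hm)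
  obtain ⟨κ, a, y, hy, hA⟩ := Module.Flat.isTrivialRelation_of_sum_smul_eq_zero hu
  choose c k hc hk using fun j => M.exists_clear (y j).2 (N + m)
  let K := Finset.univ.sup k
  let Y : Fin κ → C := fun j => M.h ^ (K - k j) * c j
  have hYfix : ∀ j, ∀ τ ∈ M.H, τ • Y j = Y j := fun j τ hτ => by
    simp only [Y, smul_mul', smul_pow', M.h_fix τ hτ, hc j τ hτ]
  have hY : ∀ j, M.res (Y j) * M.ψ M.vt ^ (N + m) = M.ψ (y j : T) * M.res M.h ^ K := fun j => by
    have e : k j + (K - k j) = K := Nat.add_sub_cancel' (Finset.le_sup (f := k) (Finset.mem_univ j))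
    rw [show M.res M.h ^ K = M.res M.h ^ k j * M.res M.h ^ (K - k j) from by rw [← pow_add, e],
      ← mul_assoc, ← hk j]
    simp only [Y, map_mul, map_pow]
    ring
  have h0 : ∀ i, M.res (M.h ^ K * x i - ∑ j, a i j • Y j) = 0 := fun i => by
    refine (M.isUnit_ψ_vt.pow (N + m)).mul_left_cancel ?_
    rw [mul_zero, map_sub, map_sum, mul_sub, Finset.mul_sum, sub_eq_zero]
    have e : M.ψ (M.vt ^ m * t' i) = ∑ j, a i j • M.ψ (y j : T) := by
      have := congrArg M.ψ (congrArg Subtype.val (hy i))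
      simpa [u, map_sum] using this
    calc M.ψ M.vt ^ (N + m) * M.res (M.h ^ K * x i)
        = M.ψ M.vt ^ m * (M.res (x i) * M.ψ M.vt ^ N) * M.res M.h ^ K := by
          rw [map_mul, map_pow]; ring
      _ = M.ψ (M.vt ^ m * t' i) * M.res M.h ^ K := by rw [hn', ← map_pow, ← map_mul]
      _ = ∑ j, M.ψ M.vt ^ (N + m) * M.res (a i j • Y j) := by
          rw [e, Finset.sum_mul]
          refine Finset.sum_congr rfl fun j _ => ?_
          rw [map_smul, mul_smul_comm, smul_mul_assoc, ← hY j, mul_comm]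
  choose p hp using fun i => M.res_ker _ (h0 i)
  let Q := Finset.univ.sup p + 1
  have hQ : ∀ i, M.h ^ (Q + K) * x i = ∑ j, a i j • (M.h ^ Q * Y j) := fun i => by
    obtain ⟨r, hr⟩ := Nat.exists_eq_add_of_le (Finset.le_sup (f := p) (Finset.mem_univ i))
    have : M.h ^ Q * (M.h ^ K * x i - ∑ j, a i j • Y j) = 0 := by
      rw [show Q = p i + (r + 1) from by rw [← add_assoc, ← hr], pow_add, mul_right_comm, hp i, zero_mul]
    rw [mul_sub, sub_eq_zero, Finset.mul_sum, ← mul_assoc, ← pow_add] at this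
    rw [this]
    exact Finset.sum_congr rfl fun j _ => mul_smul_comm _ _ _
  have hfix : ∀ τ ∈ M.H, τ • M.h ^ (Q + K) = M.h ^ (Q + K) := fun τ hτ => by
    rw [smul_pow', M.h_fix τ hτ]
  refine ⟨tr M.H (M.h ^ (Q + K)), fun g => smul_tr hfix g, ?_, κ, a, fun j => tr M.H (M.h ^ Q * Y j),
    fun j g => smul_tr (fun τ hτ => by rw [smul_mul', smul_pow', M.h_fix τ hτ, hYfix j τ hτ]) g, fun i => ?_, hA⟩
  · intro hs
    have hd := tr_sub_mem hfix P fun σ hσ => by
      rw [smul_pow']
      exact P.pow_mem_of_mem (h2 σ hσ) _ (by omega)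
    rw [P.sub_mem_iff_right hs] at hd
    exact h1 ((inferInstance : P.IsPrime).mem_of_pow_mem _ hd)
  · rw [mul_comm, ← tr_mul_of_fixed (hx i), mul_comm, hQ i]
    let := Fintype.ofFinite (G ⧸ M.H)
    simp only [tr, Finset.smul_sum, smul_comm _ (a i _)]
    rw [Finset.sum_comm]

/-- Invariants are flat as soon as relations are locally trivial. -/
theorem flat_invSub
    (hloc : ∀ P : Ideal C, P.IsPrime → ∀ {l : ℕ} {f : Fin l → R} {x : Fin l → C},
      (∀ i, ∀ g : G, g • x i = x i) → ∑ i, f i • x i = 0 →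
      ∃ s ∈ invSub R G C, s ∉ P ∧
        ∃ (κ : ℕ) (a : Fin l → Fin κ → R) (y : Fin κ → C), (∀ j, y j ∈ invSub R G C) ∧
          (∀ i, s * x i = ∑ j, a i j • y j) ∧ ∀ j, ∑ i, f i * a i j = 0) :
    Module.Flat R (invSub R G C) := by
  classical
  rw [Module.Flat.iff_forall_isTrivialRelation]
  intro l f x hx
  let B : Subalgebra R C :=
    { carrier := {c | ∀ g : G, g • c = c}
      mul_mem' := fun ha hb g => by rw [smul_mul', ha g, hb g]
      one_mem' := fun g => smul_one g
      add_mem' := fun ha hb g => by rw [smul_add, ha g, hb g]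
      zero_mem' := fun g => smul_zero g
      algebraMap_mem' := fun r g => by rw [Algebra.algebraMap_eq_smul_one, smul_comm, smul_one] }
  have : SMulCommClass G B C := ⟨fun g b c => by
    show g • ((b : C) * c) = (b : C) * g • c
    rw [smul_mul', b.2 g]⟩
  have : Algebra.IsInvariant B C G := ⟨fun c hc => ⟨⟨c, hc⟩, rfl⟩⟩
  have : Algebra.IsIntegral B C := Algebra.IsInvariant.isIntegral B C G
  let J : Ideal B :=
    { carrier := {s | ∃ (κ : ℕ) (a : Fin l → Fin κ → R) (y : Fin κ → C), (∀ j, y j ∈ invSub R G C) ∧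
        (∀ i, (s : C) * (x i : C) = ∑ j, a i j • y j) ∧ ∀ j, ∑ i, f i * a i j = 0}
      zero_mem' := ⟨0, fun _ j => j.elim0, fun j => j.elim0, fun j => j.elim0, fun i => by simp, fun j => j.elim0⟩
      add_mem' := by
        rintro s s' ⟨κ, a, y, hy, he, ha⟩ ⟨κ', a', y', hy', he', ha'⟩
        refine ⟨κ + κ', fun i => Fin.append (a i) (a' i), Fin.append y y', fun j => ?_, fun i => ?_, fun j => ?_⟩
        · induction j using Fin.addCases with
          | left j => rw [Fin.append_left]; exact hy j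
          | right j => rw [Fin.append_right]; exact hy' j
        · rw [Subalgebra.coe_add, add_mul, he, he', Fin.sum_univ_add]
          simp only [Fin.append_left, Fin.append_right]
        · induction j using Fin.addCases with
          | left j => simpa only [Fin.append_left] using ha j
          | right j => simpa only [Fin.append_right] using ha' j
      smul_mem' := by
        rintro b s ⟨κ, a, y, hy, he, ha⟩
        refine ⟨κ, a, fun j => (b : C) * y j, fun j g => by rw [smul_mul', b.2 g, hy j g], fun i => ?_, ha⟩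
        rw [smul_eq_mul, Subalgebra.coe_mul, mul_assoc, he, Finset.mul_sum]
        exact Finset.sum_congr rfl fun j _ => mul_smul_comm _ _ _ }
  have htop : J = ⊤ := by
    by_contra hne
    obtain ⟨Q, hQ, hle⟩ := Ideal.exists_le_maximal J hne
    obtain ⟨P, _, hP, hcomap⟩ := Ideal.exists_ideal_over_prime_of_isIntegral Q (⊥ : Ideal C) (by
      intro b hb
      rw [Ideal.mem_comap, Ideal.mem_bot] at hb
      have : b = 0 := Subtype.ext hb
      exact this ▸ Q.zero_mem)
    obtain ⟨s, hs, hsP, κ, a, y, hy, he, ha⟩ := hloc P hP (fun i => (x i).2) (by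
      have := congrArg Subtype.val hx
      simpa using this)
    refine hsP ?_
    have : (⟨s, hs⟩ : B) ∈ Q := hle ⟨κ, a, y, hy, he, ha⟩
    rw [← hcomap] at this
    exact this
  obtain ⟨κ, a, y, hy, he, ha⟩ : (1 : B) ∈ J := htop ▸ Submodule.mem_top
  refine ⟨κ, a, fun j => ⟨y j, hy j⟩, fun i => Subtype.ext ?_, ha⟩
  simpa using he i

end FlatInv

end Groth.Agent.SymFlat14
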