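import Groth.Agent.Lib.SymFlat14.Compare
import Groth.Agent.Lib.IsQuot25.Basic

/-!
# Flatness of symmetric products
-/

set_option autoImplicit false
set_option backward.isDefEq.respectTransparency.types false
universe u

open CategoryTheory CategoryTheory.Limits AlgebraicGeometry TopologicalSpace

namespace Groth.Agent.SymFlat14

variable {X S Y P : Scheme.{u}} {f : X ⟶ S} {d : ℕ} {D : FP f d P} {ρ : Gd.{u} d →* Aut P} {q : P ⟶ Y}

theorem flat_sections [Flat f] (hρ : D.IsAct ρ) (hq : SGA1.IsQuot ρ q) (g : Y ⟶ S) (hg : q ≫ g = D.base)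
    {V : S.Opens} (hV : IsAffineOpen V) {U : Y.Opens} (hU : IsAffineOpen U) (hUV : U ≤ g ⁻¹ᵁ V) :
    (g.appLE V U hUV).hom.Flat := by
  have hWV : q ⁻¹ᵁ U ≤ D.base ⁻¹ᵁ V := fun z hz => by
    show D.base z ∈ V
    rw [← hg]
    exact hUV hz
  have hW : IsAffineOpen (q ⁻¹ᵁ U) := by
    haveI := hq.affine
    exact hU.preimage q
  let _ := acton hq.inv U
  let _ := algW D hWV
  have := smulComm hρ hq.inv U hWV
  have := flat_invariants hρ hq.inv hW hV hWV
  let _ : Algebra Γ(S, V) Γ(Y, U) := (g.appLE V U hUV).hom.toAlgebra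
  show Module.Flat Γ(S, V) Γ(Y, U)
  have hfix : ∀ (u : Γ(Y, U)) (σ : Gd.{u} d), σ • q.app U u = q.app U u := fun u σ =>
    (IsQuot25.mem_range_iff hq U _).1 ⟨u, rfl⟩ σ⁻¹
  let j : Γ(Y, U) →ₗ[Γ(S, V)] invSub Γ(S, V) (Gd.{u} d) Γ(P, q ⁻¹ᵁ U) :=
    { toFun := fun u => ⟨q.app U u, hfix u⟩
      map_add' := fun a b => Subtype.ext (map_add (q.app U).hom a b)
      map_smul' := fun t u => Subtype.ext (by
        show q.app U (g.appLE V U hUV t * u) = D.base.appLE V _ hWV t * q.app U u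
        rw [map_mul]
        congr 1
        show (g.appLE V U hUV ≫ q.app U) t = _
        rw [q.app_eq_appLE, Scheme.Hom.appLE_comp_appLE]
        simp only [hg]) }
  refine Module.Flat.of_linearEquiv (LinearEquiv.ofBijective j ⟨fun a b h => hq.injective U (congrArg Subtype.val h),
    fun x => ?_⟩)
  obtain ⟨u, hu⟩ := (IsQuot25.mem_range_iff hq U x.1).2 fun σ => by
    have := x.2 σ⁻¹
    change IsQuot25.actHom hq.inv U σ⁻¹⁻¹ x.1 = x.1 at this
    rwa [inv_inv] at this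
  exact ⟨u, Subtype.ext hu⟩

theorem flat_symProd [Flat f] (hρ : D.IsAct ρ) (hq : SGA1.IsQuot ρ q) (g : Y ⟶ S) (hg : q ≫ g = D.base) :
    Flat g :=
  ⟨fun hV _ hU e => flat_sections hρ hq g hg hV hU e⟩

end Groth.Agent.SymFlat14
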