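import Groth.Agent.Lib.SymFlat14.Compare
import Groth.Agent.Lib.IsQuot25.Props
import Mathlib.AlgebraicGeometry.Morphisms.ClosedImmersion
import Mathlib.AlgebraicGeometry.PullbackCarrier

/-!
# Comparison morphisms between symmetric products: residue fields and closed immersions
-/

set_option autoImplicit false
set_option backward.isDefEq.respectTransparency.types false
universe u

open CategoryTheory CategoryTheory.Limits AlgebraicGeometry TopologicalSpace

namespace Groth.Agent.SymFlat14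

section Spanning

variable {X S X' S' : Scheme.{u}}

/-- `X'` is affine over, and generated by, `X ×_S S'`, over given affine opens of the bases. -/
def Spans (f : X ⟶ S) (f' : X' ⟶ S') (a : X' ⟶ X) (V : S.Opens) (V' : S'.Opens) : Prop :=
  ∀ U : X.Opens, IsAffineOpen U → U ≤ f ⁻¹ᵁ V → IsAffineOpen (a ⁻¹ᵁ U ⊓ f' ⁻¹ᵁ V') ∧
    letI := (f'.appLE V' (a ⁻¹ᵁ U ⊓ f' ⁻¹ᵁ V') inf_le_right).hom.toAlgebra
    Submodule.span Γ(S', V') (Set.range (a.appLE U (a ⁻¹ᵁ U ⊓ f' ⁻¹ᵁ V') inf_le_left)) = ⊤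

theorem spans_pullback {f : X ⟶ S} {g : S' ⟶ S} {V : S.Opens} (hV : IsAffineOpen V) {V' : S'.Opens}
    (hV' : IsAffineOpen V') (hVV : V' ≤ g ⁻¹ᵁ V) :
    Spans f (pullback.snd f g) (pullback.fst f g) V V' := by
  intro U hU hUV
  have H := IsPullback.of_hasPullback f g
  have : IsAffine _ := hU
  have : IsAffine _ := hV
  have : IsAffine _ := hV'
  have hB : IsAffineOpen (pullback.fst f g ⁻¹ᵁ U ⊓ pullback.snd f g ⁻¹ᵁ V') :=
    IsAffine.of_isIso (Scheme.Hom.isPullback_resLE H hVV hUV rfl).isoPullback.hom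
  refine ⟨hB, ?_⟩
  set B := pullback.fst f g ⁻¹ᵁ U ⊓ pullback.snd f g ⁻¹ᵁ V'
  have hpo := (isIso_pushoutSection_iff H hVV hUV rfl).1
    (isIso_pushoutSection_of_isAffineOpen H hVV hUV rfl hV hV' hU)
  let i : Γ(S, V) ⟶ Γ(X, U) := f.appLE V U hUV
  let j : Γ(S, V) ⟶ Γ(S', V') := g.appLE V V' hVV
  let i' : Γ(S', V') ⟶ Γ(pullback f g, B) := (pullback.snd f g).appLE V' B inf_le_right
  let k : Γ(X, U) ⟶ Γ(pullback f g, B) := (pullback.fst f g).appLE U B inf_le_left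
  letI : Algebra Γ(S, V) Γ(X, U) := i.hom.toAlgebra
  letI : Algebra Γ(S, V) Γ(S', V') := j.hom.toAlgebra
  letI : Algebra Γ(X, U) Γ(pullback f g, B) := k.hom.toAlgebra
  letI : Algebra Γ(S', V') Γ(pullback f g, B) := i'.hom.toAlgebra
  letI : Algebra Γ(S, V) Γ(pullback f g, B) := (i ≫ k).hom.toAlgebra
  have hw : i ≫ k = j ≫ i' := hpo.w
  haveI : IsScalarTower Γ(S, V) Γ(X, U) Γ(pullback f g, B) := .of_algebraMap_eq' rfl
  haveI : IsScalarTower Γ(S, V) Γ(S', V') Γ(pullback f g, B) :=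
    .of_algebraMap_eq' (congrArg CommRingCat.Hom.hom hw)
  haveI : Algebra.IsPushout Γ(S, V) Γ(S', V') Γ(X, U) Γ(pullback f g, B) := by
    rw [← CommRingCat.isPushout_iff_isPushout]
    have := hpo.flip
    simpa only [i, j, k, i', RingHom.algebraMap_toAlgebra, CommRingCat.ofHom_hom] using this
  refine eq_top_iff.2 fun z _ => ?_
  obtain ⟨t, rfl⟩ := (Algebra.IsPushout.equiv Γ(S, V) Γ(S', V') Γ(X, U) Γ(pullback f g, B)).surjective z
  induction t using TensorProduct.induction_on with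
  | zero => rw [map_zero]; exact zero_mem _
  | tmul r u =>
    rw [Algebra.IsPushout.equiv_tmul, ← Algebra.smul_def]
    exact Submodule.smul_mem _ r (Submodule.subset_span ⟨u, rfl⟩)
  | add t t' h h' => rw [map_add]; exact add_mem (h trivial) (h' trivial)

theorem spans_closed {f : X ⟶ S} {g : S' ⟶ S} {f' : X' ⟶ S'} {a : X' ⟶ X} (i : X' ⟶ pullback f g)
    [IsClosedImmersion i] (hia : i ≫ pullback.fst f g = a) (hif : i ≫ pullback.snd f g = f')
    {V : S.Opens} (hV : IsAffineOpen V) {V' : S'.Opens} (hV' : IsAffineOpen V') (hVV : V' ≤ g ⁻¹ᵁ V) :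
    Spans f f' a V V' := by
  intro U hU hUV
  subst hia hif
  obtain ⟨hB, hspan⟩ := spans_pullback hV hV' hVV U hU hUV
  set B := pullback.fst f g ⁻¹ᵁ U ⊓ pullback.snd f g ⁻¹ᵁ V'
  have e : (i ≫ pullback.fst f g) ⁻¹ᵁ U ⊓ (i ≫ pullback.snd f g) ⁻¹ᵁ V' = i ⁻¹ᵁ B := rfl
  refine ⟨hB.preimage i, ?_⟩
  letI := ((pullback.snd f g).appLE V' B inf_le_right).hom.toAlgebra
  letI := ((i ≫ pullback.snd f g).appLE V' ((i ≫ pullback.fst f g) ⁻¹ᵁ U ⊓ (i ≫ pullback.snd f g) ⁻¹ᵁ V')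
    inf_le_right).hom.toAlgebra
  let il : Γ(pullback f g, B) →ₗ[Γ(S', V')]
      Γ(X', (i ≫ pullback.fst f g) ⁻¹ᵁ U ⊓ (i ≫ pullback.snd f g) ⁻¹ᵁ V') :=
    { toFun := i.app B
      map_add' := map_add (i.app B).hom
      map_smul' := fun r z => by
        show i.app B ((pullback.snd f g).appLE V' B _ r * z) = _ * i.app B z
        rw [map_mul]
        congr 1
        show ((pullback.snd f g).appLE V' B _ ≫ i.app B) r = (i ≫ pullback.snd f g).appLE V' _ _ r
        rw [i.app_eq_appLE, Scheme.Hom.appLE_comp_appLE] }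
  have hs : Function.Surjective il := i.app_surjective B hB
  rw [eq_top_iff, ← LinearMap.range_eq_top.2 hs, LinearMap.range_eq_map, ← hspan, Submodule.map_span]
  refine Submodule.span_mono ?_
  rintro _ ⟨_, ⟨u, rfl⟩, rfl⟩
  refine ⟨u, ?_⟩
  show (i ≫ pullback.fst f g).appLE U _ _ u = ((pullback.fst f g).appLE U B _ ≫ i.app B) u
  rw [i.app_eq_appLE, Scheme.Hom.appLE_comp_appLE]

/-- Passing to a point of the base. -/
theorem Spans.fibre {f : X ⟶ S} {f' : X' ⟶ S'} {a : X' ⟶ X} {V : S.Opens} {V' : S'.Opens}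
    (h : Spans f f' a V V') (hV' : IsAffineOpen V') {K : Scheme.{u}} [IsAffine K] (ι : K ⟶ S')
    (hι : ⊤ ≤ ι ⁻¹ᵁ V') :
    Spans f (pullback.snd f' ι) (pullback.fst f' ι ≫ a) V ⊤ := by
  intro U hU hUV
  obtain ⟨hU', hspan⟩ := h U hU hUV
  set U' := a ⁻¹ᵁ U ⊓ f' ⁻¹ᵁ V'
  obtain ⟨hB, hBspan⟩ := spans_pullback hV' (isAffineOpen_top K) hι U' hU' inf_le_right
  have e : (pullback.fst f' ι ≫ a) ⁻¹ᵁ U ⊓ pullback.snd f' ι ⁻¹ᵁ ⊤ =
      pullback.fst f' ι ⁻¹ᵁ U' ⊓ pullback.snd f' ι ⁻¹ᵁ ⊤ := by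
    refine le_antisymm (le_inf (fun z hz => ⟨hz.1, ?_⟩) inf_le_right) (le_inf (fun z hz => hz.1.1) inf_le_right)
    show f' (pullback.fst f' ι z) ∈ V'
    rw [← Scheme.Hom.comp_apply, pullback.condition]
    exact hι trivial
  have key : ∀ W (hW : W = pullback.fst f' ι ⁻¹ᵁ U' ⊓ pullback.snd f' ι ⁻¹ᵁ ⊤)
      (h1 : W ≤ pullback.snd f' ι ⁻¹ᵁ ⊤) (h2 : W ≤ (pullback.fst f' ι ≫ a) ⁻¹ᵁ U), IsAffineOpen W ∧
      letI := ((pullback.snd f' ι).appLE ⊤ W h1).hom.toAlgebra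
      Submodule.span Γ(K, ⊤) (Set.range ((pullback.fst f' ι ≫ a).appLE U W h2)) = ⊤ := by
    rintro W rfl h1 h2
    refine ⟨hB, ?_⟩
    set B := pullback.fst f' ι ⁻¹ᵁ U' ⊓ pullback.snd f' ι ⁻¹ᵁ ⊤
    letI := ((pullback.snd f' ι).appLE ⊤ B h1).hom.toAlgebra
    letI := (f'.appLE V' U' inf_le_right).hom.toAlgebra
    rw [eq_top_iff, ← hBspan, Submodule.span_le]
    rintro _ ⟨u, rfl⟩
    have hu : u ∈ Submodule.span Γ(S', V') (Set.range (a.appLE U U' inf_le_left)) := by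
      rw [hspan]; trivial
    induction hu using Submodule.span_induction with
    | mem y hy =>
      obtain ⟨x, rfl⟩ := hy
      refine Submodule.subset_span ⟨x, ?_⟩
      rw [← CommRingCat.comp_apply, Scheme.Hom.appLE_comp_appLE]
    | zero => rw [map_zero]; exact zero_mem _
    | add y z _ _ hy hz => rw [map_add]; exact add_mem hy hz
    | smul r y _ hy =>
      rw [Algebra.smul_def, map_mul]
      have : (pullback.fst f' ι).appLE U' B inf_le_left (algebraMap Γ(S', V') Γ(X', U') r) =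
          algebraMap Γ(K, ⊤) Γ(pullback f' ι, B) (ι.appLE V' ⊤ hι r) := by
        show (f'.appLE V' U' inf_le_right ≫ (pullback.fst f' ι).appLE U' B inf_le_left) r =
          (ι.appLE V' ⊤ hι ≫ (pullback.snd f' ι).appLE ⊤ B h1) r
        rw [Scheme.Hom.appLE_comp_appLE, Scheme.Hom.appLE_comp_appLE]
        simp only [pullback.condition]
      rw [this, ← Algebra.smul_def]
      exact Submodule.smul_mem _ _ hy
  exact key _ e inf_le_right inf_le_left

end Spanning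

end Groth.Agent.SymFlat14
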