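import Groth.Agent.Lib.SymFlat14.Box

/-!
# The coordinate ring of a basic open of a box is a localisation of the tensor power
-/

set_option autoImplicit false
set_option backward.isDefEq.respectTransparency.types false
universe u

open CategoryTheory CategoryTheory.Limits AlgebraicGeometry TopologicalSpace

namespace Groth.Agent.SymFlat14

open Groth.Agent.GammaD

theorem appLE_specMap_fromSpec {X : Scheme.{u}} {U : X.Opens} (hU : IsAffineOpen U) {Q : CommRingCat.{u}}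
    (k : Γ(X, U) ⟶ Q) (h : ⊤ ≤ (Spec.map k ≫ hU.fromSpec) ⁻¹ᵁ U) :
    (Spec.map k ≫ hU.fromSpec).appLE U ⊤ h ≫ (Scheme.ΓSpecIso Q).hom = k := by
  have h0 : hU.fromSpec.appLE U ⊤ (hU.fromSpec_preimage_self.ge) = (Scheme.ΓSpecIso Γ(X, U)).inv := by
    rw [Scheme.Hom.appLE, hU.fromSpec_app_self, Category.assoc, ← Functor.map_comp]
    refine Eq.trans (congrArg _ ?_) (Category.comp_id _)
    exact (congrArg _ (Subsingleton.elim _ (𝟙 _))).trans ((Spec Γ(X, U)).presheaf.map_id _)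
  rw [← Scheme.Hom.appLE_comp_appLE (Spec.map k) hU.fromSpec U ⊤ ⊤ hU.fromSpec_preimage_self.ge le_rfl, h0]
  have h1 : (Spec.map k).appLE ⊤ ⊤ le_rfl = (Spec.map k).appTop := by
    rw [Scheme.Hom.appLE]
    exact (congrArg (_ ≫ ·) ((congrArg _ (Subsingleton.elim _ (𝟙 _))).trans
      ((Spec Q).presheaf.map_id _))).trans (Category.comp_id _)
  rw [h1, ← Scheme.ΓSpecIso_inv_naturality, Category.assoc, Iso.inv_hom_id, Category.comp_id]

theorem comp_toSpecΓ {X : Scheme.{u}} {O : X.Opens} {Q : CommRingCat.{u}} (g : Spec Q ⟶ O.toScheme)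
    (h : ⊤ ≤ (g ≫ O.ι) ⁻¹ᵁ O) :
    g ≫ O.toSpecΓ = Spec.map ((g ≫ O.ι).appLE O ⊤ h ≫ (Scheme.ΓSpecIso Q).hom) := by
  have h1 : O.topIso.inv ≫ g.appTop = (g ≫ O.ι).appLE O ⊤ h := by
    rw [← Scheme.Hom.appLE_comp_appLE g O.ι O ⊤ ⊤ O.ι_preimage_self.ge le_rfl]
    congr 1
    · simp only [Scheme.Opens.topIso, Functor.mapIso_inv, Scheme.Hom.appLE, Scheme.Opens.ι_app,
        Scheme.Opens.toScheme_presheaf_map]
      erw [← X.presheaf.map_comp]
      rfl
  rw [Scheme.Opens.toSpecΓ, Scheme.toSpecΓ_naturality_assoc, ← SpecMap_ΓSpecIso_hom, ← Spec.map_comp,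
    ← Spec.map_comp, h1]

namespace Box

variable {X S : Scheme.{u}} {f : X ⟶ S} {d : ℕ} {V : S.Opens} (b : Box f d V) {P : Scheme.{u}} (D : FP f d P)
  {O : P.Opens} (hO : O ≤ b.B D) (v : Tpow Γ(S, V) b.A d)

theorem basicOpen_ψ_le : P.basicOpen (b.ψ D le_rfl v) ≤ b.B D := Scheme.basicOpen_le _ _

set_option maxHeartbeats 1600000 in
/-- The chart ring is a localisation of the tensor power. -/
theorem isAffineOpen_and_localization (hv : b.e ∣ v) (hOv : O = P.basicOpen (b.ψ D le_rfl v)) :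
    IsAffineOpen O ∧ IsUnit (b.ψ D hO v) ∧
      (∀ z, ∃ (t : Tpow Γ(S, V) b.A d) (n : ℕ), z * b.ψ D hO v ^ n = b.ψ D hO t) ∧
      ∀ t, b.ψ D hO t = 0 → ∃ n : ℕ, v ^ n * t = 0 := by
  classical
  have := b.fin
  letI := b.algO D hO
  let T := Tpow Γ(S, V) b.A d
  let Q := Localization.Away v
  let η : T →+* Q := algebraMap T Q
  have hηv : IsUnit (η v) := IsLocalization.Away.algebraMap_isUnit v
  let sg : Fin d → b.A →ₐ[Γ(S, V)] T := fun i =>
    PiTensorProduct.singleAlgHom (R := Γ(S, V)) (A := fun _ : Fin d => b.A) i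
  let δ : Fin d → b.A := fun i => Pi.single (b.φ i) 1
  have hprod : b.e = ∏ i, sg i (δ i) := (prod_single δ).symm
  have hδ : ∀ i, η (sg i (δ i)) = 1 := by
    intro i
    have he : IsUnit (η b.e) := isUnit_of_dvd_unit (map_dvd η hv) hηv
    rw [hprod, map_prod] at he
    have hu : IsUnit (η (sg i (δ i))) := (IsUnit.prod_iff.1 he) i (Finset.mem_univ i)
    refine hu.mul_left_cancel ?_
    rw [mul_one, ← map_mul, ← map_mul]
    congr 2
    simp only [δ, ← Pi.single_mul, mul_one]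
  let κ : ∀ i, Γ(X, b.U (b.φ i)) →+* Q := fun i =>
    { toFun := fun a => η (sg i (Pi.single (b.φ i) a))
      map_one' := hδ i
      map_mul' := fun x y => by rw [Pi.single_mul, map_mul, map_mul]
      map_zero' := by rw [Pi.single_zero, map_zero, map_zero]
      map_add' := fun x y => by rw [Pi.single_add, map_add, map_add] }
  have hκ : ∀ i (a : b.A), κ i (a (b.φ i)) = η (sg i a) := fun i a => by
    show η (sg i (Pi.single (b.φ i) (a (b.φ i)))) = _
    have : (Pi.single (b.φ i) (a (b.φ i)) : b.A) = a * δ i := by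
      funext j
      rw [Pi.mul_apply]
      rcases eq_or_ne j (b.φ i) with rfl | hj
      · simp [δ]
      · simp [δ, Pi.single_eq_of_ne hj]
    rw [this, map_mul, map_mul, hδ, mul_one]
  let α : Γ(S, V) →+* Q := η.comp (algebraMap Γ(S, V) T)
  have hκα : ∀ i (r : Γ(S, V)), κ i (f.appLE V (b.U (b.φ i)) (b.hUV _) r) = α r := by
    intro i r
    refine (hκ i (algebraMap Γ(S, V) b.A r)).trans ?_
    exact congrArg η ((sg i).commutes r)
  let a : Fin d → (Spec (CommRingCat.of Q) ⟶ X) := fun i =>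
    Spec.map (CommRingCat.ofHom (κ i)) ≫ (b.hU (b.φ i)).fromSpec
  let s : Spec (CommRingCat.of Q) ⟶ S := Spec.map (CommRingCat.ofHom α) ≫ b.hV.fromSpec
  have has : ∀ i, a i ≫ f = s := by
    intro i
    simp only [a, s, Category.assoc]
    rw [← IsAffineOpen.SpecMap_appLE_fromSpec f b.hV (b.hU (b.φ i)) (b.hUV _), ← Category.assoc,
      ← Spec.map_comp]
    congr 2
    ext r
    exact hκα i r
  let r : Spec (CommRingCat.of Q) ⟶ P := D.lift s a has
  have hrs : r ≫ D.base = s := D.lift_base _ _ _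
  have hra : ∀ i, r ≫ D.π i = a i := D.lift_π _ _ _
  have hrB : (⊤ : (Spec (CommRingCat.of Q)).Opens) ≤ r ⁻¹ᵁ b.B D := by
    intro z _
    refine (b.mem_B D).2 ⟨?_, fun i => ?_⟩
    · rw [← Scheme.Hom.comp_apply, hrs]
      show (b.hV.fromSpec) (Spec.map (CommRingCat.ofHom α) z) ∈ V
      exact b.hV.range_fromSpec.le ⟨_, rfl⟩
    · rw [← Scheme.Hom.comp_apply, hra]
      show (b.hU (b.φ i)).fromSpec (Spec.map (CommRingCat.ofHom (κ i)) z) ∈ b.U (b.φ i)
      exact (b.hU _).range_fromSpec.le ⟨_, rfl⟩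
  have hrψ : ∀ {W : P.Opens} (hW : W ≤ b.B D) (h : ⊤ ≤ r ⁻¹ᵁ W) (t : T),
      (Scheme.ΓSpecIso (CommRingCat.of Q)).hom (r.appLE W ⊤ h (b.ψ D hW t)) = η t := by
    intro W hW h t
    letI := b.algO D hW
    refine RingHom.congr_fun (f := ((Scheme.ΓSpecIso (CommRingCat.of Q)).hom.hom.comp
      (r.appLE W ⊤ h).hom).comp (b.ψ D hW).toRingHom) (g := η) ?_ t
    refine ringHom_ext_tpow (fun c => ?_) fun i x => ?_
    · show (Scheme.ΓSpecIso _).hom (r.appLE W ⊤ h (b.ψ D hW (algebraMap _ _ c))) = _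
      rw [ψ_algebraMap, ← CommRingCat.comp_apply, ← CommRingCat.comp_apply, ← Category.assoc,
        Scheme.Hom.appLE_comp_appLE,
        IsQuot25.appLE_eq hrs, appLE_specMap_fromSpec]
      rfl
    · show (Scheme.ΓSpecIso _).hom (r.appLE W ⊤ h (b.ψ D hW (sg i x))) = _
      rw [ψ_single, ← CommRingCat.comp_apply, ← CommRingCat.comp_apply, ← Category.assoc,
        Scheme.Hom.appLE_comp_appLE,
        IsQuot25.appLE_eq (hra i), appLE_specMap_fromSpec]
      exact hκ i x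
  have hrO : (⊤ : (Spec (CommRingCat.of Q)).Opens) ≤ r ⁻¹ᵁ O := by
    have hu : IsUnit (r.appLE (b.B D) ⊤ hrB (b.ψ D le_rfl v)) := by
      have h2 := hηv
      rw [← hrψ le_rfl hrB v] at h2
      have h4 := h2.map (Scheme.ΓSpecIso (CommRingCat.of Q)).inv.hom
      rwa [← CommRingCat.comp_apply, Iso.hom_inv_id] at h4
    have h3 := (Spec (CommRingCat.of Q)).basicOpen_of_isUnit hu
    rw [basicOpen_appLE] at h3
    rw [hOv]
    exact h3.ge.trans inf_le_right
  have hvu : IsUnit (b.ψ D hO v) := by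
    subst hOv
    rw [← b.ψ_res D le_rfl hO v]
    exact RingedSpace.isUnit_res_basicOpen P.toRingedSpace _
  clear hOv
  have hu' : IsUnit ((b.ψ D hO).toRingHom v) := hvu
  let ψb : Q →+* Γ(P, O) := IsLocalization.Away.lift v hu'
  have hψb : ∀ t, ψb (η t) = b.ψ D hO t := fun t => IsLocalization.Away.lift_eq v hu' t
  let bb : O.toScheme ⟶ Spec (CommRingCat.of Q) := O.toSpecΓ ≫ Spec.map (CommRingCat.ofHom ψb)
  have hrange : Set.range r ⊆ Set.range O.ι := by
    rintro _ ⟨z, rfl⟩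
    rw [Scheme.Opens.range_ι]
    exact hrO (show z ∈ (⊤ : (Spec (CommRingCat.of Q)).Opens) from trivial)
  let r' : Spec (CommRingCat.of Q) ⟶ O.toScheme := IsOpenImmersion.lift O.ι r hrange
  have hr' : r' ≫ O.ι = r := IsOpenImmersion.lift_fac _ _ _
  have h12 : r' ≫ bb = 𝟙 _ := by
    have hle : ⊤ ≤ (r' ≫ O.ι) ⁻¹ᵁ O := by rw [hr']; exact hrO
    rw [show r' ≫ bb = (r' ≫ O.toSpecΓ) ≫ Spec.map (CommRingCat.ofHom ψb) from (Category.assoc _ _ _).symm,
      comp_toSpecΓ r' hle, ← Spec.map_comp, ← Spec.map_id]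
    congr 1
    refine CommRingCat.hom_ext (IsLocalization.ringHom_ext (Submonoid.powers v) (RingHom.ext fun t => ?_))
    show (Scheme.ΓSpecIso _).hom ((r' ≫ O.ι).appLE O ⊤ hle (ψb (η t))) = η t
    rw [hψb, IsQuot25.appLE_eq hr']
    exact hrψ hO hrO t
  have h21 : bb ≫ r' = 𝟙 _ := by
    rw [← cancel_mono O.ι, Category.assoc, hr', Category.id_comp]
    refine D.hom_ext (fun i => ?_) ?_
    · rw [Category.assoc, hra]
      simp only [bb, a, Category.assoc]
      rw [← Spec.map_comp_assoc, show CommRingCat.ofHom (κ i) ≫ CommRingCat.ofHom ψb =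
        (D.π i).appLE (b.U (b.φ i)) O (b.le_π D hO i) from ?_, Scheme.Opens.toSpecΓ_SpecMap_appLE_assoc,
        (b.hU _).toSpecΓ_fromSpec, Scheme.Hom.resLE_comp_ι]
      ext c
      show ψb (η (sg i (Pi.single (b.φ i) c))) = _
      rw [hψb, ψ_single, Pi.single_eq_same]
    · rw [Category.assoc, hrs]
      simp only [bb, s, Category.assoc]
      rw [← Spec.map_comp_assoc, show CommRingCat.ofHom α ≫ CommRingCat.ofHom ψb =
        D.base.appLE V O (b.le_base D hO) from ?_, Scheme.Opens.toSpecΓ_SpecMap_appLE_assoc,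
        b.hV.toSpecΓ_fromSpec, Scheme.Hom.resLE_comp_ι]
      ext c
      show ψb (η (algebraMap _ _ c)) = _
      rw [hψb, ψ_algebraMap]
  haveI : IsIso bb := ⟨r', h21, h12⟩
  have hAff : IsAffineOpen O := IsAffine.of_isIso bb
  haveI : IsIso O.toSpecΓ := hAff.isoSpec_hom ▸ inferInstance
  haveI : IsIso (Spec.map (CommRingCat.ofHom ψb)) := IsIso.of_isIso_comp_left O.toSpecΓ _
  have hbij : Function.Bijective ψb := (isIso_SpecMap_iff (f := CommRingCat.ofHom ψb)).1 inferInstance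
  refine ⟨hAff, hvu, fun z => ?_, fun t ht => ?_⟩
  · obtain ⟨q, rfl⟩ := hbij.2 z
    obtain ⟨n, t, hq⟩ := IsLocalization.Away.surj v q
    exact ⟨t, n, by rw [← hψb t, ← hq, map_mul, map_pow, hψb]⟩
  · have h0 : η t = 0 := hbij.1 (by rw [hψb, ht, map_zero])
    obtain ⟨⟨-, n, rfl⟩, hn⟩ := (IsLocalization.map_eq_zero_iff (Submonoid.powers v) Q t).1 h0
    exact ⟨n, hn⟩

end Box

end Groth.Agent.SymFlat14
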