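import Groth.Agent.Lib.SymFlat14.Tensor
import Mathlib.RingTheory.Finiteness.Basic
import Mathlib.RingTheory.Finiteness.Prod

/-!
# Purity of the invariants
-/

set_option autoImplicit false
universe u
open scoped TensorProduct

namespace Groth.Agent.SymFlat14

open Groth.Agent.GammaD

section Quot

variable {R C : Type u} [CommRing R] [AddCommGroup C] [Module R C] (N : Submodule R C)

/-- A quotient of a flat module by a pure submodule is flat. -/
theorem flat_quot_of_pure [Module.Flat R C]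
    (h : ∀ {l : ℕ} (f : Fin l → R) (c : Fin l → C), ∑ i, f i • c i ∈ N →
      ∃ y : Fin l → C, (∀ i, y i ∈ N) ∧ ∑ i, f i • c i = ∑ i, f i • y i) :
    Module.Flat R (C ⧸ N) := by
  rw [Module.Flat.iff_rTensor_injective]
  intro I _
  rw [injective_iff_map_eq_zero]
  intro z hz
  obtain ⟨w, rfl⟩ := LinearMap.lTensor_surjective I N.mkQ_surjective z
  obtain ⟨l, a, c, rfl⟩ : ∃ (l : ℕ) (a : Fin l → I) (c : Fin l → C), w = ∑ i, a i ⊗ₜ[R] c i := by
    obtain ⟨s, hs⟩ := TensorProduct.exists_finset w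
    refine ⟨s.card, fun i => (s.equivFin.symm i).1.1, fun i => (s.equivFin.symm i).1.2, ?_⟩
    rw [hs, ← Finset.sum_coe_sort s]
    exact Fintype.sum_equiv s.equivFin _ _ fun i => by simp
  have hmem : ∑ i, (a i : R) • c i ∈ N := by
    rw [← Submodule.Quotient.mk_eq_zero N, ← Submodule.mkQ_apply]
    have := congrArg (TensorProduct.lid R (C ⧸ N)) hz
    simpa only [map_sum, LinearMap.lTensor_tmul, LinearMap.rTensor_tmul, TensorProduct.lid_tmul,
      Submodule.subtype_apply, map_zero, map_smul] using this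
  obtain ⟨y, hy, he⟩ := h _ c hmem
  have h0 : ∑ i, a i ⊗ₜ[R] (c i - y i) = 0 := by
    refine Module.Flat.rTensor_preserves_injective_linearMap (M := C) I.subtype I.injective_subtype ?_
    apply (TensorProduct.lid R C).injective
    simp [map_sum, smul_sub, Finset.sum_sub_distrib, he]
  have := congrArg (N.mkQ.lTensor I) h0
  have hyq : ∀ i, N.mkQ (y i) = 0 := fun i => (Submodule.Quotient.mk_eq_zero N).2 (hy i)
  simpa only [map_sum, LinearMap.lTensor_tmul, map_sub, hyq, sub_zero, map_zero] using this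

/-- A submodule with flat quotient stays a submodule after tensoring. -/
theorem lTensor_injective_of_flat_quot [Module.Flat R (C ⧸ N)] (M : Type u) [AddCommGroup M] [Module R M] :
    Function.Injective (N.subtype.lTensor M) := by
  classical
  rw [injective_iff_map_eq_zero]
  intro z hz
  obtain ⟨F, _, _, _, π, hπ⟩ : ∃ (F : Type u) (_ : AddCommGroup F) (_ : Module R F) (_ : Module.Flat R F)
      (π : F →ₗ[R] M), Function.Surjective π :=
    ⟨M →₀ R, inferInstance, inferInstance, inferInstance, Finsupp.linearCombination R id,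
      Finsupp.linearCombination_id_surjective R M⟩
  let K := LinearMap.ker π
  have hK : Function.Exact K.subtype π := fun x => by simp [K]
  obtain ⟨w, rfl⟩ := LinearMap.rTensor_surjective N hπ z
  have hw : π.rTensor C (N.subtype.lTensor F w) = 0 := by
    rw [← LinearMap.comp_apply, LinearMap.rTensor_comp_lTensor, ← LinearMap.lTensor_comp_rTensor]
    exact hz
  obtain ⟨k, hk⟩ := (rTensor_exact (f := K.subtype) (g := π) C hK hπ _).1 hw
  have hk0 : N.mkQ.lTensor K k = 0 := by
    refine Module.Flat.rTensor_preserves_injective_linearMap (M := C ⧸ N) K.subtype K.injective_subtype ?_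
    rw [← LinearMap.comp_apply, LinearMap.rTensor_comp_lTensor, ← LinearMap.lTensor_comp_rTensor,
      LinearMap.comp_apply, hk, ← LinearMap.comp_apply, ← LinearMap.lTensor_comp,
      show N.mkQ ∘ₗ N.subtype = 0 from LinearMap.ext fun x => (Submodule.Quotient.mk_eq_zero N).2 x.2,
      LinearMap.lTensor_zero, LinearMap.zero_apply, map_zero]
  have hex : Function.Exact N.subtype N.mkQ := LinearMap.exact_subtype_mkQ N
  obtain ⟨k', rfl⟩ := (lTensor_exact K hex N.mkQ_surjective _).1 hk0
  have e : K.subtype.rTensor N k' = w := by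
    refine Module.Flat.lTensor_preserves_injective_linearMap (M := F) N.subtype N.injective_subtype ?_
    rw [← hk, ← LinearMap.comp_apply, LinearMap.lTensor_comp_rTensor, ← LinearMap.rTensor_comp_lTensor]
    rfl
  rw [← e]
  exact (rTensor_exact (f := K.subtype) (g := π) N hK hπ).apply_apply_eq_zero k'

end Quot

section Sym

variable {R : Type u} [CommRing R] {n : ℕ} {M : Type u} [AddCommGroup M] [Module R M]

/-- Symmetric tensors of a free module are a direct summand. -/
theorem exists_sym_retract [Module.Free R M] :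
    ∃ P : (⨂[R] _ : Fin n, M) →ₗ[R] SymFlatH28.Sym (R := R) n M,
      ∀ t : SymFlatH28.Sym (R := R) n M, P t = t := by
  obtain ⟨B, _, _, i, q, hqi, ⟨e⟩⟩ := SymFlatH28.exists_ring_retract R M
  obtain ⟨⟨κ, c⟩⟩ := Module.Free.exists_basis (R := R) (M := M)
  let bB : Module.Basis (PUnit.{u + 1} ⊕ κ) R B := ((Module.Basis.singleton PUnit.{u + 1} R).prod c).map e.symm
  refine ⟨(pmap n q ∘ₗ orbP n bB ∘ₗ pmap n i).codRestrict _ fun t =>
    SymFlatH28.pmap_mem_Sym q (SymFlatH28.mem_Sym.2 ((SymTen.mem_TS_iff R B n _).1 (orbP_mem_TS bB _))),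
    fun t => Subtype.ext ?_⟩
  show pmap n q (orbP n bB (pmap n i t.1)) = t.1
  rw [orbP_eq_self bB ((SymTen.mem_TS_iff R B n _).2 (SymFlatH28.mem_Sym.1 (SymFlatH28.pmap_mem_Sym i t.2))),
    ← pmap_comp, hqi, SymFlatH28.pmap_id]

/-- Every tensor comes from a finite free stage. -/
theorem exists_tensor_stage (t : ⨂[R] _ : Fin n, M) :
    ∃ (F : Type u) (_ : AddCommGroup F) (_ : Module R F) (_ : Module.Free R F) (_ : Module.Finite R F)
      (a : F →ₗ[R] M) (w : ⨂[R] _ : Fin n, F), pmap n a w = t := by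
  classical
  induction t using PiTensorProduct.induction_on with
  | smul_tprod r x =>
    refine ⟨Fin n → R, inferInstance, inferInstance, inferInstance, inferInstance,
      Fintype.linearCombination R x, r • PiTensorProduct.tprod R fun i => Pi.single i 1, ?_⟩
    simp [pmap, Fintype.linearCombination_apply_single]
  | add t t' h h' =>
    obtain ⟨F, _, _, _, _, a, w, rfl⟩ := h
    obtain ⟨F', _, _, _, _, a', w', rfl⟩ := h'
    refine ⟨F × F', inferInstance, inferInstance, inferInstance, inferInstance, a.coprod a',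
      pmap n (LinearMap.inl R F F') w + pmap n (LinearMap.inr R F F') w', ?_⟩
    rw [map_add, ← pmap_comp, ← pmap_comp, LinearMap.coprod_inl, LinearMap.coprod_inr]

/-- Symmetric tensors of a flat module are pure in all tensors. -/
theorem sym_pure [Module.Flat R M] {l : ℕ} (f : Fin l → R) (x : Fin l → ⨂[R] _ : Fin n, M)
    (h : ∑ i, f i • x i ∈ SymFlatH28.Sym (R := R) n M) :
    ∃ y : Fin l → ⨂[R] _ : Fin n, M, (∀ i, y i ∈ SymFlatH28.Sym (R := R) n M) ∧
      ∑ i, f i • x i = ∑ i, f i • y i := by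
  classical
  obtain ⟨F, _, _, _, _, a, w, hw, hwS⟩ := SymFlatH28.exists_stage h
  choose Fx i₁ i₂ i₃ i₄ ax wx hwx using fun i => exists_tensor_stage (x i)
  let G := ∀ i, Fx i
  let b : G →ₗ[R] M := ∑ i, ax i ∘ₗ LinearMap.proj i
  have hbs : ∀ j, b ∘ₗ LinearMap.single R Fx j = ax j := by
    intro j
    refine LinearMap.ext fun y => ?_
    simp only [b, LinearMap.comp_apply, LinearMap.sum_apply]
    rw [Finset.sum_eq_single j (fun k _ hk => by
      show ax k (Pi.single (M := Fx) j y k) = 0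
      rw [Pi.single_eq_of_ne hk, map_zero]) (fun h => absurd (Finset.mem_univ j) h)]
    show ax j (Pi.single (M := Fx) j y j) = ax j y
    rw [Pi.single_eq_same]
  let W := pmap n (LinearMap.inl R F G) w
  let V : Fin l → ⨂[R] _ : Fin n, F × G := fun i =>
    pmap n (LinearMap.inr R F G) (pmap n (LinearMap.single R Fx i) (wx i))
  have hV : ∀ i, pmap n (a.coprod b) (V i) = x i := fun i => by
    simp only [V]
    rw [← pmap_comp, LinearMap.coprod_inr, ← pmap_comp, hbs, hwx]
  have hW : pmap n (a.coprod b) W = ∑ i, f i • x i := by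
    simp only [W]
    rw [← pmap_comp, LinearMap.coprod_inl, hw]
  obtain ⟨F', _, _, _, _, a₁, a₂, hab, hk⟩ :=
    SymFlatH28.exists_kill_mod (a.coprod b) (W - ∑ i, f i • V i) (by
      rw [map_sub, map_sum, hW, sub_eq_zero]
      simp only [map_smul, hV])
  obtain ⟨P, hP⟩ := exists_sym_retract (R := R) (n := n) (M := F')
  rw [map_sub, sub_eq_zero, map_sum] at hk
  simp only [map_smul] at hk
  have hz : pmap n a₁ W ∈ SymFlatH28.Sym (R := R) n F' :=
    SymFlatH28.pmap_mem_Sym _ (SymFlatH28.pmap_mem_Sym _ hwS)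
  refine ⟨fun i => pmap n a₂ (P (pmap n a₁ (V i))).1, fun i => SymFlatH28.pmap_mem_Sym _ (P _).2, ?_⟩
  have e := congrArg Subtype.val (hP ⟨_, hz⟩)
  simp only [hk, map_sum, map_smul, AddSubmonoidClass.coe_finset_sum, Submodule.coe_smul] at e
  rw [← hW, hab, pmap_comp, hk, ← e, map_sum]
  simp only [map_smul]

end Sym

section Model

variable {R G C T L : Type u} [CommRing R] [Group G] [Finite G] [CommRing C] [CommRing T] [CommRing L]
  [Algebra R C] [Algebra R T] [Algebra R L] [MulSemiringAction G C] [MulSemiringAction G T]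
  [SMulCommClass G R C] [SMulCommClass G R T]

/-- Combinations with invariant value have invariant coefficients near a prime having a model. -/
theorem exists_local_ideal (M : Model R G C T L)
    (hT : ∀ {l : ℕ} (f : Fin l → R) (x : Fin l → T), (∀ g : G, g • ∑ i, f i • x i = ∑ i, f i • x i) →
      ∃ y : Fin l → T, (∀ i, ∀ g : G, g • y i = y i) ∧ ∑ i, f i • x i = ∑ i, f i • y i)
    (P : Ideal C) [P.IsPrime] (h1 : M.h ∉ P) (h2 : ∀ σ : G, σ ∉ M.H → σ • M.h ∈ P)
    {l : ℕ} (f : Fin l → R) (c : Fin l → C) (hc : ∀ g : G, g • ∑ i, f i • c i = ∑ i, f i • c i) :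
    ∃ s ∈ invSub R G C, s ∉ P ∧ ∃ y : Fin l → C, (∀ i, y i ∈ invSub R G C) ∧
      s * ∑ i, f i • c i = ∑ i, f i • y i := by
  classical
  obtain ⟨x, hxdef⟩ : ∃ x, x = ∑ i, f i • c i := ⟨_, rfl⟩
  rw [← hxdef] at hc ⊢
  obtain ⟨t, N, ht, hN⟩ := M.exists_ψ (z := M.res x) fun τ hτ => by rw [M.act_res τ hτ, hc]
  choose ti ni hti using fun i => M.ψ_surj (M.res (c i) * M.ψ M.vt ^ N)
  let n' := Finset.univ.sup ni
  let t' : Fin l → T := fun i => M.v ^ (n' - ni i) * ti i
  have ht' : ∀ i, M.res (c i) * M.ψ M.vt ^ N * M.ψ M.v ^ n' = M.ψ (t' i) := fun i => by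
    have e : ni i + (n' - ni i) = n' := Nat.add_sub_cancel' (Finset.le_sup (f := ni) (Finset.mem_univ i))
    conv_lhs => rw [← e, pow_add, ← mul_assoc, hti i]
    rw [map_mul, map_pow, mul_comm]
  obtain ⟨m, hm⟩ := M.ψ_ker (M.v ^ n' * t - ∑ i, f i • t' i) (by
    rw [map_sub, map_mul, map_pow, map_sum, ← hN, sub_eq_zero, hxdef, map_sum, Finset.sum_mul,
      Finset.mul_sum]
    refine Finset.sum_congr rfl fun i _ => ?_
    rw [map_smul, map_smul, smul_mul_assoc, mul_smul_comm, ← ht', mul_comm])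
  have hp : ∀ k : ℕ, M.v * M.vt ^ k = M.v ^ (k + 1) := by
    intro k
    induction k with
    | zero => simp
    | succ k ih =>
      rw [pow_succ, ← mul_assoc, ih, pow_succ, mul_assoc, Model.vt,
        mul_tr M.v_fix fun σ hσ => M.v_orth σ hσ, pow_succ (M.v) (k + 1), pow_succ M.v k, mul_assoc]
  have hk : M.vt ^ (m + n' + 1) * t = ∑ i, f i • tr M.H (M.v ^ (m + 1) * t' i) := by
    have e : M.v * (M.vt ^ (m + n') * t) = ∑ i, f i • (M.v ^ (m + 1) * t' i) := by
      rw [← mul_assoc, hp, show m + n' + 1 = (m + 1) + n' from by ring, pow_add, mul_assoc]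
      rw [mul_sub, sub_eq_zero, Finset.mul_sum] at hm
      rw [pow_succ', mul_assoc, hm, Finset.mul_sum]
      exact Finset.sum_congr rfl fun i _ => by rw [mul_smul_comm, mul_smul_comm, mul_assoc]
    have := congrArg (tr M.H) e
    rw [mul_comm M.v, tr_mul_of_fixed (fun g => by rw [smul_mul', smul_pow', M.vt_fix, ht]) M.v,
      ← Model.vt, mul_right_comm, ← pow_succ] at this
    rw [this]
    let := Fintype.ofFinite (G ⧸ M.H)
    simp only [tr, Finset.smul_sum, smul_comm _ (f _)]
    rw [Finset.sum_comm]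
  have hfix : ∀ g : G, g • (M.vt ^ (m + n' + 1) * t) = M.vt ^ (m + n' + 1) * t := fun g => by
    rw [smul_mul', smul_pow', M.vt_fix, ht]
  obtain ⟨y, hy, hye⟩ := hT f (fun i => tr M.H (M.v ^ (m + 1) * t' i)) (fun g => by rw [← hk]; exact hfix g)
  choose Y k hY hYk using fun i => M.exists_clear (hy i) (N + (m + n' + 1))
  let K := Finset.univ.sup k
  let Z : Fin l → C := fun i => M.h ^ (K - k i) * Y i
  have hZfix : ∀ i, ∀ τ ∈ M.H, τ • Z i = Z i := fun i τ hτ => by
    simp only [Z, smul_mul', smul_pow', M.h_fix τ hτ, hY i τ hτ]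
  have hZ : ∀ i, M.res (Z i) * M.ψ M.vt ^ (N + (m + n' + 1)) = M.ψ (y i) * M.res M.h ^ K := fun i => by
    have e : k i + (K - k i) = K := Nat.add_sub_cancel' (Finset.le_sup (f := k) (Finset.mem_univ i))
    rw [show M.res M.h ^ K = M.res M.h ^ k i * M.res M.h ^ (K - k i) from by rw [← pow_add, e],
      ← mul_assoc, ← hYk i]
    simp only [Z, map_mul, map_pow]
    ring
  have h0 : M.res (M.h ^ K * x - ∑ i, f i • Z i) = 0 := by
    refine (M.isUnit_ψ_vt.pow (N + (m + n' + 1))).mul_left_cancel ?_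
    rw [mul_zero, map_sub, mul_sub, map_sum, Finset.mul_sum, sub_eq_zero]
    calc M.ψ M.vt ^ (N + (m + n' + 1)) * M.res (M.h ^ K * x)
        = M.ψ M.vt ^ (m + n' + 1) * (M.res x * M.ψ M.vt ^ N) * M.res M.h ^ K := by
          rw [map_mul, map_pow]; ring
      _ = M.ψ (∑ i, f i • y i) * M.res M.h ^ K := by rw [hN, ← map_pow, ← map_mul, hk, hye]
      _ = ∑ i, M.ψ M.vt ^ (N + (m + n' + 1)) * M.res (f i • Z i) := by
          rw [map_sum, Finset.sum_mul]
          refine Finset.sum_congr rfl fun i _ => ?_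
          rw [map_smul, map_smul, mul_smul_comm, smul_mul_assoc, ← hZ i, mul_comm]
  obtain ⟨p, hp'⟩ := M.res_ker _ h0
  let Q := p + 1
  have hQ : M.h ^ (Q + K) * x = ∑ i, f i • (M.h ^ Q * Z i) := by
    have : M.h ^ Q * (M.h ^ K * x - ∑ i, f i • Z i) = 0 := by
      simp only [Q, pow_succ']
      rw [mul_assoc, hp', mul_zero]
    rw [mul_sub, sub_eq_zero, Finset.mul_sum, ← mul_assoc, ← pow_add] at this
    rw [this]
    exact Finset.sum_congr rfl fun i _ => mul_smul_comm _ _ _
  have hfh : ∀ τ ∈ M.H, τ • M.h ^ (Q + K) = M.h ^ (Q + K) := fun τ hτ => by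
    rw [smul_pow', M.h_fix τ hτ]
  refine ⟨tr M.H (M.h ^ (Q + K)), fun g => smul_tr hfh g, ?_, fun i => tr M.H (M.h ^ Q * Z i),
    fun i g => smul_tr (fun τ hτ => by rw [smul_mul', smul_pow', M.h_fix τ hτ, hZfix i τ hτ]) g, ?_⟩
  · intro hs
    have hd := tr_sub_mem hfh P fun σ hσ => by
      rw [smul_pow']
      exact P.pow_mem_of_mem (h2 σ hσ) _ (by omega)
    rw [P.sub_mem_iff_right hs] at hd
    exact h1 ((inferInstance : P.IsPrime).mem_of_pow_mem _ hd)
  · rw [mul_comm, ← tr_mul_of_fixed hc, mul_comm, hQ]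
    let := Fintype.ofFinite (G ⧸ M.H)
    simp only [tr, Finset.smul_sum, smul_comm _ (f _)]
    rw [Finset.sum_comm]

/-- Purity of invariants from the local statement. -/
theorem pure_invSub
    (hloc : ∀ P : Ideal C, P.IsPrime → ∀ {l : ℕ} (f : Fin l → R) (c : Fin l → C),
      (∀ g : G, g • ∑ i, f i • c i = ∑ i, f i • c i) →
      ∃ s ∈ invSub R G C, s ∉ P ∧ ∃ y : Fin l → C, (∀ i, y i ∈ invSub R G C) ∧
        s * ∑ i, f i • c i = ∑ i, f i • y i)
    {l : ℕ} (f : Fin l → R) (c : Fin l → C) (hc : ∀ g : G, g • ∑ i, f i • c i = ∑ i, f i • c i) :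
    ∃ y : Fin l → C, (∀ i, y i ∈ invSub R G C) ∧ ∑ i, f i • c i = ∑ i, f i • y i := by
  classical
  let B : Subalgebra R C :=
    { carrier := {c | ∀ g : G, g • c = c}
      mul_mem' := fun ha hb g => by rw [smul_mul', ha g, hb g]
      one_mem' := fun g => smul_one g
      add_mem' := fun ha hb g => by rw [smul_add, ha g, hb g]
      zero_mem' := fun g => smul_zero g
      algebraMap_mem' := fun r g => by rw [Algebra.algebraMap_eq_smul_one, smul_comm, smul_one] }
  have : SMulCommClass G B C := ⟨fun g b c => by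
    show g • ((b : C) * c) = (b : C) * g • c
    rw [smul_mul', b.2 g]⟩
  have : Algebra.IsInvariant B C G := ⟨fun c hc => ⟨⟨c, hc⟩, rfl⟩⟩
  have : Algebra.IsIntegral B C := Algebra.IsInvariant.isIntegral B C G
  let J : Ideal B :=
    { carrier := {s | ∃ y : Fin l → C, (∀ i, y i ∈ invSub R G C) ∧
        (s : C) * ∑ i, f i • c i = ∑ i, f i • y i}
      zero_mem' := ⟨0, fun i => zero_mem _, by simp⟩
      add_mem' := by
        rintro s s' ⟨y, hy, e⟩ ⟨y', hy', e'⟩
        exact ⟨y + y', fun i => add_mem (hy i) (hy' i), by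
          simp [add_mul, e, e', Finset.sum_add_distrib]⟩
      smul_mem' := by
        rintro b s ⟨y, hy, e⟩
        exact ⟨fun i => (b : C) * y i, fun i g => by rw [smul_mul', b.2 g, hy i g], by
          rw [smul_eq_mul, Subalgebra.coe_mul, mul_assoc, e, Finset.mul_sum]
          exact Finset.sum_congr rfl fun i _ => mul_smul_comm _ _ _⟩ }
  have htop : J = ⊤ := by
    by_contra hne
    obtain ⟨Q, hQ, hle⟩ := Ideal.exists_le_maximal J hne
    obtain ⟨P, _, hP, hcomap⟩ := Ideal.exists_ideal_over_prime_of_isIntegral Q (⊥ : Ideal C) (by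
      intro b hb
      rw [Ideal.mem_comap, Ideal.mem_bot] at hb
      have : b = 0 := Subtype.ext hb
      exact this ▸ Q.zero_mem)
    obtain ⟨s, hs, hsP, y, hy, e⟩ := hloc P hP f c hc
    refine hsP ?_
    have : (⟨s, hs⟩ : B) ∈ Q := hle ⟨y, hy, e⟩
    rw [← hcomap] at this
    exact this
  obtain ⟨y, hy, e⟩ : (1 : B) ∈ J := htop ▸ Submodule.mem_top
  exact ⟨y, hy, by simpa using e⟩

end Model

end Groth.Agent.SymFlat14
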