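import Groth.Agent.Lib.SymFlat14.Core
import Groth.Agent.Lib.SymFlatH28.Basic

/-!
# Symmetric tensors of a flat algebra are generated by the symmetric tensors of any generating algebra
-/

set_option autoImplicit false
universe u
open scoped TensorProduct

namespace Groth.Agent.SymFlat14

open Groth.Agent.GammaD

/-- The symmetric group, in the universe of the schemes. -/
abbrev Gd (d : ℕ) : Type u := ULift.{u} (Equiv.Perm (Fin d))

variable (R A : Type u) [CommRing R] [CommRing A] [Algebra R A] (d : ℕ)

theorem perm_perm (σ τ : Equiv.Perm (Fin d)) (t : Tpow R A d) :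
    SymTen.perm R A d (σ * τ) t = SymTen.perm R A d σ (SymTen.perm R A d τ t) := by
  induction t using PiTensorProduct.induction_on with
  | smul_tprod r f => simp only [map_smul, SymTen.perm_tprod]; rfl
  | add x y hx hy => simp only [map_add, hx, hy]

theorem perm_one (t : Tpow R A d) : SymTen.perm R A d 1 t = t := by
  induction t using PiTensorProduct.induction_on with
  | smul_tprod r f => simp only [map_smul, SymTen.perm_tprod]; rfl
  | add x y hx hy => simp only [map_add, hx, hy]

noncomputable instance tAct : MulSemiringAction (Gd.{u} d) (Tpow R A d) where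
  smul σ t := SymTen.perm R A d σ.down t
  one_smul := perm_one R A d
  mul_smul σ τ t := perm_perm R A d σ.down τ.down t
  smul_zero σ := map_zero (SymTen.perm R A d σ.down)
  smul_add σ := map_add (SymTen.perm R A d σ.down)
  smul_one σ := map_one (SymTen.perm R A d σ.down)
  smul_mul σ := map_mul (SymTen.perm R A d σ.down)

theorem smul_def (σ : Gd.{u} d) (t : Tpow R A d) : σ • t = SymTen.perm R A d σ.down t := rfl

theorem smul_tprod (σ : Gd.{u} d) (f : Fin d → A) :
    σ • PiTensorProduct.tprod R f = PiTensorProduct.tprod R fun i => f (σ.down.symm i) :=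
  SymTen.perm_tprod R A d σ.down f

theorem smul_single (σ : Gd.{u} d) (i : Fin d) (a : A) :
    σ • PiTensorProduct.singleAlgHom (R := R) (A := fun _ : Fin d => A) i a =
      PiTensorProduct.singleAlgHom (R := R) (A := fun _ : Fin d => A) (σ.down i) a := by
  refine (smul_tprod R A d σ _).trans (congrArg (PiTensorProduct.tprod R) (funext fun j => ?_))
  simp only [MonoidHom.mulSingle_apply, Pi.mulSingle_apply]
  exact if_congr (Equiv.symm_apply_eq _) rfl rfl

noncomputable instance tAct_comm : SMulCommClass (Gd.{u} d) R (Tpow R A d) :=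
  ⟨fun σ r t => map_smul (SymTen.perm R A d σ.down) r t⟩

theorem invSub_eq : invSub R (Gd.{u} d) (Tpow R A d) = SymFlatH28.Sym (R := R) d A := by
  ext t
  rw [mem_invSub, SymFlatH28.mem_Sym]
  exact ⟨fun h σ => (SymTen.perm_apply R A d σ t).symm.trans (h ⟨σ⟩),
    fun h σ => (SymTen.perm_apply R A d σ.down t).trans (h σ.down)⟩

theorem flat_invSub_tpow [Module.Flat R A] : Module.Flat R (invSub R (Gd.{u} d) (Tpow R A d)) := by
  rw [invSub_eq]
  exact SymFlatH28.flat_Sym

variable {R A} {R' A' : Type u} [CommRing R'] [CommRing A'] [Algebra R' A'] [Algebra R R']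
  [Algebra R A'] [IsScalarTower R R' A']

variable (R') in
/-- Functoriality of tensor powers in a change of base. -/
noncomputable def tauT (α : A →ₐ[R] A') : Tpow R A d →ₐ[R] Tpow R' A' d :=
  PiTensorProduct.liftAlgHom
    (((PiTensorProduct.tprod R' (s := fun _ : Fin d => A')).restrictScalars R).compLinearMap
      fun _ => α.toLinearMap)
    (by
      show PiTensorProduct.tprod R' (fun i => α ((1 : Fin d → A) i)) = 1
      rw [PiTensorProduct.one_def]
      exact congrArg _ (funext fun i => map_one α))
    (fun x y => by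
      show PiTensorProduct.tprod R' (fun i => α ((x * y) i)) =
        PiTensorProduct.tprod R' (fun i => α (x i)) * PiTensorProduct.tprod R' (fun i => α (y i))
      rw [PiTensorProduct.tprod_mul_tprod]
      exact congrArg _ (funext fun i => map_mul α (x i) (y i)))

theorem tauT_tprod (α : A →ₐ[R] A') (f : Fin d → A) :
    tauT d R' α (PiTensorProduct.tprod R f) = PiTensorProduct.tprod R' fun i => α (f i) := by
  simp [tauT]

theorem tauT_smul (α : A →ₐ[R] A') (σ : Gd.{u} d) (t : Tpow R A d) :
    tauT d R' α (σ • t) = σ • tauT d R' α t := by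
  induction t using PiTensorProduct.induction_on with
  | smul_tprod r f =>
    rw [smul_comm σ r, smul_tprod R A d σ f, map_smul (tauT d R' α) r, map_smul (tauT d R' α) r, tauT_tprod,
      tauT_tprod, smul_def R' A' d σ, AlgHom.map_smul_of_tower, SymTen.perm_tprod]
  | add x y hx hy => rw [smul_add, map_add, map_add, smul_add, hx, hy]

/-- Invariant tensors over `R'` are combinations of images of invariant tensors over `R`. -/
theorem mem_span_tauT [Module.Flat R' A'] (α : A →ₐ[R] A')
    (hα : Submodule.span R' (Set.range α) = ⊤) {t : Tpow R' A' d}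
    (ht : ∀ g : Gd.{u} d, g • t = t) :
    t ∈ Submodule.span R' (tauT d R' α '' {t | ∀ g : Gd.{u} d, g • t = t}) := by
  classical
  let f : (A →₀ R') →ₗ[R'] A' := Finsupp.linearCombination R' α
  have hf : Function.Surjective f := by
    rw [← LinearMap.range_eq_top, Finsupp.range_linearCombination, hα]
  obtain ⟨w, hw, rfl⟩ := SymFlatH28.exists_sym_lift (n := d) f hf
    (SymFlatH28.mem_Sym.2 fun σ => (SymTen.perm_apply R' A' d σ t).symm.trans (ht ⟨σ⟩))
  let b := Basis.piTensorProduct fun _ : Fin d => (Finsupp.basisSingleOne : Module.Basis A R' (A →₀ R'))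
  have hb : ∀ c : Fin d → A, b c = PiTensorProduct.tprod R' fun i => Finsupp.single (c i) (1 : R') := fun c => by
    simp only [b, Basis.piTensorProduct_apply, Finsupp.coe_basisSingleOne]
  let act : Equiv.Perm (Fin d) → (Fin d → A) ≃ (Fin d → A) := fun σ => σ.arrowCongr (Equiv.refl A)
  have hact : ∀ (σ : Equiv.Perm (Fin d)) (c : Fin d → A),
      PiTensorProduct.reindex R' (fun _ : Fin d => A →₀ R') σ (b c) = b (act σ c) := fun σ c => by
    rw [hb, hb, PiTensorProduct.reindex_tprod]
    rfl
  have hcoef : ∀ (σ : Equiv.Perm (Fin d)) (c : Fin d → A), b.repr w (act σ c) = b.repr w c := by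
    intro σ c
    have key : b.repr ∘ₗ (PiTensorProduct.reindex R' (fun _ : Fin d => A →₀ R') σ).toLinearMap =
        (Finsupp.domLCongr (act σ)).toLinearMap ∘ₗ b.repr.toLinearMap :=
      b.ext fun c' => by
        simp only [LinearMap.comp_apply, LinearEquiv.coe_coe]
        rw [hact, b.repr_self, b.repr_self, Finsupp.domLCongr_single]
    have := LinearMap.congr_fun key w
    simp only [LinearMap.comp_apply, LinearEquiv.coe_coe, SymFlatH28.mem_Sym.1 hw σ] at this
    conv_lhs => rw [this]
    simp [Finsupp.domLCongr_apply]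
  let orb : (Fin d → A) → Finset (Fin d → A) := fun c => Finset.univ.image fun σ => act σ c
  have hact_mul : ∀ (σ τ : Equiv.Perm (Fin d)) (c : Fin d → A), act σ (act τ c) = act (σ * τ) c :=
    fun σ τ c => rfl
  have horb : ∀ (c c' : Fin d → A), c' ∈ orb c → orb c' = orb c := by
    intro c c' hc'
    obtain ⟨τ, -, rfl⟩ := Finset.mem_image.1 hc'
    ext x
    simp only [orb, Finset.mem_image, Finset.mem_univ, true_and, hact_mul]
    exact ⟨fun ⟨σ, h⟩ => ⟨σ * τ, h⟩, fun ⟨σ, h⟩ => ⟨σ * τ⁻¹, by rwa [inv_mul_cancel_right]⟩⟩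
  have hself : ∀ c, c ∈ orb c := fun c =>
    Finset.mem_image.2 ⟨1, Finset.mem_univ _, rfl⟩
  rw [← b.linearCombination_repr w, Finsupp.linearCombination_apply, Finsupp.sum,
    ← Finset.sum_fiberwise_of_maps_to (t := (b.repr w).support.image orb) (g := orb)
      (fun c hc => Finset.mem_image_of_mem _ hc), map_sum]
  refine Submodule.sum_mem _ fun O hO => ?_
  obtain ⟨c₀, hc₀, rfl⟩ := Finset.mem_image.1 hO
  have hfilter : (b.repr w).support.filter (fun c => orb c = orb c₀) = orb c₀ := by
    ext c
    rw [Finset.mem_filter]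
    refine ⟨fun h => h.2 ▸ hself c, fun h => ⟨?_, horb _ _ h⟩⟩
    obtain ⟨σ, -, rfl⟩ := Finset.mem_image.1 h
    rw [Finsupp.mem_support_iff, hcoef]
    exact Finsupp.mem_support_iff.1 hc₀
  have hconst : ∀ c ∈ orb c₀, b.repr w c • b c = b.repr w c₀ • b c := by
    intro c hc
    obtain ⟨σ, -, rfl⟩ := Finset.mem_image.1 hc
    rw [hcoef]
  rw [hfilter, Finset.sum_congr rfl hconst, ← Finset.smul_sum, map_smul]
  refine Submodule.smul_mem _ _ (Submodule.subset_span
    ⟨∑ c ∈ orb c₀, PiTensorProduct.tprod R c, fun g => ?_, ?_⟩)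
  · rw [Finset.smul_sum]
    refine Finset.sum_equiv (act g.down) (fun c => ?_) fun c _ => smul_tprod R A d g c
    simp only [orb, Finset.mem_image, Finset.mem_univ, true_and]
    exact ⟨fun ⟨σ, h⟩ => ⟨g.down * σ, by rw [← hact_mul, h]⟩,
      fun ⟨σ, h⟩ => ⟨g.down⁻¹ * σ, by rw [← hact_mul, h, hact_mul, inv_mul_cancel]; rfl⟩⟩
  · rw [map_sum, map_sum]
    refine Finset.sum_congr rfl fun c _ => ?_
    rw [tauT_tprod, hb]
    simp [pmap, f]

end Groth.Agent.SymFlat14
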